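import Cfsg.Agent.Lib.Char.SmallOrderGraph.Split.Degrees
import Cfsg.Agent.Lib.Char.SmallOrderGraph.Block
import Cfsg.Agent.Lib.Perm.PermChar

/-!
# Degree primes of the alternating group of degree seven
-/

set_option autoImplicit false

namespace Cfsg.Agent.Char.SmallOrderGraph.Split

open Cfsg Cfsg.Agent.Char

universe u

/-- The order of `N(P)/C(P)` divides `p - 1` when `P` has order `p`. -/
theorem relIndex_dvd {G : Type u} [Group G] [Finite G] {p : ℕ} [Fact p.Prime] (P : Subgroup G)
    (hP : Nat.card P = p) :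
    (Subgroup.centralizer (P : Set G)).relIndex (Subgroup.normalizer (P : Set G)) ∣ p - 1 := by
  haveI : IsCyclic P := isCyclic_of_prime_card hP
  rw [Subgroup.relIndex, ← Subgroup.normalizerMonoidHom_ker, Subgroup.index_ker,
    ← Nat.totient_prime (Fact.out : p.Prime), ← hP, ← IsCyclic.card_mulAut P]
  exact Subgroup.card_subgroup_dvd_card _

/-- A group with a self-centralizing subgroup of prime order `p` and more than `p` classes. -/
theorem prime_mem_degreePrimes {G : Type u} [Group G] [Finite G] {p : ℕ} [Fact p.Prime]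
    (P : Sylow p G) (hP : Nat.card P = p)
    (hC : Nat.card (Subgroup.centralizer ((P : Subgroup G) : Set G)) = p)
    (hk : p < Nat.card (ConjClasses G)) : p ∈ degreePrimes G := by
  classical
  haveI := Fintype.ofFinite G
  by_contra hne
  obtain ⟨M, X, Y, a, δ, h, -, hdvd⟩ := exists_data P hP rfl hC
  have hall : (Finset.univ : Finset (IrrCharacter G)) ⊆ X ∪ Y := fun χ _ => by
    rw [Finset.mem_union]
    by_contra hm
    push Not at hm
    exact hne ⟨Fact.out, _, ⟨χ, rfl⟩, hdvd χ hm.1 hm.2⟩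
  have h1 := (Finset.card_le_card hall).trans (Finset.card_union_le X Y)
  rw [Finset.card_univ, ← Nat.card_eq_fintype_card, card_irr, h.cardX, h.cardY] at h1
  obtain ⟨c, hc⟩ := relIndex_dvd (P : Subgroup G) hP
  set e := (Subgroup.centralizer ((P : Subgroup G) : Set G)).relIndex
    (Subgroup.normalizer ((P : Subgroup G) : Set G))
  have hp := (Fact.out : p.Prime).two_le
  rw [hc] at h1
  have he : 0 < e := Nat.pos_of_ne_zero fun e0 => by rw [e0, zero_mul] at hc; omega
  have hc0 : 0 < c := Nat.pos_of_ne_zero fun e0 => by rw [e0, mul_zero] at hc; omega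
  rw [Nat.mul_div_cancel_left _ he] at h1
  have : e + c ≤ e * c + 1 := by nlinarith
  omega

abbrev S7 := Equiv.Perm (Fin 7)

/-- Eight even permutations of seven points. -/
def reps : Fin 8 → S7 :=
  ![1, Equiv.swap 0 1 * Equiv.swap 2 3, Equiv.swap 0 1 * Equiv.swap 1 2,
    Equiv.swap 0 1 * Equiv.swap 1 2 * (Equiv.swap 3 4 * Equiv.swap 4 5),
    Equiv.swap 0 1 * Equiv.swap 1 2 * Equiv.swap 2 3 * Equiv.swap 4 5,
    Equiv.swap 0 1 * Equiv.swap 1 2 * Equiv.swap 2 3 * Equiv.swap 3 4,
    Equiv.swap 0 1 * Equiv.swap 2 3 * (Equiv.swap 4 5 * Equiv.swap 5 6), finRotate 7]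

theorem reps_sign : ∀ i, Equiv.Perm.sign (reps i) = 1 := by decide +kernel

/-- The fixed points of a permutation and of its square. -/
def fixData (x : S7) : ℕ × ℕ :=
  ((Finset.univ.filter fun i => x i = i).card, (Finset.univ.filter fun i => x (x i) = i).card)

theorem fixData_inj : ∀ i j, fixData (reps i) = fixData (reps j) → i = j := by decide +kernel

theorem fixData_conj (c x : S7) : fixData (c * x * c⁻¹) = fixData x := by
  have h : ∀ f : Fin 7 → Fin 7, (Finset.univ.filter fun i => c (f (c⁻¹ i)) = i).card =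
      (Finset.univ.filter fun i => f i = i).card := fun f => by
    refine Finset.card_equiv c⁻¹ fun i => ?_
    simp only [Finset.mem_filter, Finset.mem_univ, true_and]
    exact ⟨fun hi => c.injective (hi.trans (c.apply_symm_apply i).symm),
      fun hi => (congrArg c hi).trans (c.apply_symm_apply i)⟩
  simp only [fixData, Equiv.Perm.mul_apply, Prod.mk.injEq]
  refine ⟨h x, ?_⟩
  convert h (fun i => x (x i)) using 3
  ext i
  simp

/-- A five cycle on seven points. -/
def five : S7 := Equiv.swap 0 1 * Equiv.swap 1 2 * Equiv.swap 2 3 * Equiv.swap 3 4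

theorem five_facts : five ^ 5 = 1 ∧ five ≠ 1 ∧ Equiv.Perm.sign five = 1 ∧
    (finRotate 7) ^ 7 = 1 ∧ (finRotate 7 : S7) ≠ 1 ∧ Equiv.Perm.sign (finRotate 7) = 1 := by
  decide +kernel

theorem five_centralizer :
    (Finset.univ.filter fun x : S7 => Equiv.Perm.sign x = 1 ∧ x * five = five * x).card ≤ 5 := by
  decide +kernel

theorem seven_centralizer :
    (Finset.univ.filter fun x : S7 =>
      Equiv.Perm.sign x = 1 ∧ x * finRotate 7 = finRotate 7 * x).card ≤ 7 := by
  decide +kernel

theorem transitive_witness : ∀ x y : Fin 7, x ≠ 0 → y ≠ 0 → ∃ u v : Fin 7,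
    (x = y) ∨ (Equiv.Perm.sign (Equiv.swap x y * Equiv.swap u v) = 1 ∧
      (Equiv.swap x y * Equiv.swap u v) 0 = 0 ∧ (Equiv.swap x y * Equiv.swap u v) x = y) := by
  decide +kernel

theorem move_witness : ∀ x : Fin 7, ∃ u v : Fin 7, x = 0 ∨
    (Equiv.Perm.sign (Equiv.swap 0 x * Equiv.swap u v) = 1 ∧
      (Equiv.swap 0 x * Equiv.swap u v) 0 = x) := by
  decide +kernel

variable {G : Type u} [Group G] [Finite G]

theorem class_count (e : G ≃* alternatingGroup (Fin 7)) : 8 ≤ Nat.card (ConjClasses G) := by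
  have h : Function.Injective fun i : Fin 8 => ConjClasses.mk
      (e.symm ⟨reps i, Equiv.Perm.mem_alternatingGroup.2 (reps_sign i)⟩) := fun i j hij => by
    obtain ⟨c, hc⟩ := isConj_iff.mp (ConjClasses.mk_eq_mk_iff_isConj.mp hij)
    have h1 := congrArg (fun x : G => ((e x : alternatingGroup (Fin 7)) : S7)) hc
    simp only [map_mul, map_inv, MulEquiv.apply_symm_apply, Subgroup.coe_mul,
      Subgroup.coe_inv] at h1
    exact fixData_inj i j (by rw [← h1, fixData_conj])
  have := Nat.card_le_card_of_injective _ h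
  rwa [Nat.card_fin] at this

theorem centralizer_le (e : G ≃* alternatingGroup (Fin 7)) {p : ℕ} [Fact p.Prime] (σ : S7)
    (hσ : σ ^ p = 1) (hσ1 : σ ≠ 1) (hs : Equiv.Perm.sign σ = 1)
    (hc : (Finset.univ.filter fun x : S7 => Equiv.Perm.sign x = 1 ∧ x * σ = σ * x).card ≤ p)
    (hp : ¬ p ^ 2 ∣ 2520) (hp' : p < 8) : p ∈ degreePrimes G := by
  classical
  have hG : Nat.card G = 2520 := by
    rw [Nat.card_congr e.toEquiv, nat_card_alternatingGroup, Nat.card_fin]; rfl
  set g : G := e.symm ⟨σ, Equiv.Perm.mem_alternatingGroup.2 hs⟩ with hg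
  have ho : orderOf g = p := by
    rw [hg, MulEquiv.orderOf_eq, Subgroup.orderOf_mk]
    exact orderOf_eq_prime hσ hσ1
  have hpG : p ∣ 2520 := ho ▸ hG ▸ orderOf_dvd_natCard g
  let P : Sylow p G := Sylow.ofCard (Subgroup.zpowers g) (by
    rw [Nat.card_zpowers, ho, hG]
    have h1 := ((Fact.out : p.Prime).pow_dvd_iff_le_factorization (by norm_num : (2520 : ℕ) ≠ 0)
      (k := 1)).mp (by rwa [pow_one])
    have h2 : ¬ 2 ≤ Nat.factorization 2520 p := fun h => hp
      (((Fact.out : p.Prime).pow_dvd_iff_le_factorization (by norm_num)).mpr h)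
    rw [show Nat.factorization 2520 p = 1 by omega, pow_one])
  have hP : (P : Subgroup G) = Subgroup.zpowers g := rfl
  have hPc : Nat.card P = p := by
    show Nat.card (P : Subgroup G) = p
    rw [hP, Nat.card_zpowers, ho]
  refine prime_mem_degreePrimes P hPc (le_antisymm ?_ ?_) (lt_of_lt_of_le hp' (class_count e))
  · refine le_trans ?_ hc
    rw [← Nat.card_eq_finsetCard, hP]
    refine Nat.card_le_card_of_injective
      (fun x : Subgroup.centralizer ((Subgroup.zpowers g : Subgroup G) : Set G) =>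
        (⟨((e (x : G) : alternatingGroup (Fin 7)) : S7), ?_⟩ :
          ↥(Finset.univ.filter fun x : S7 => Equiv.Perm.sign x = 1 ∧ x * σ = σ * x)))
      fun x y h => Subtype.ext (e.injective (Subtype.ext (congrArg Subtype.val h :)))
    refine Finset.mem_filter.mpr ⟨Finset.mem_univ _,
      Equiv.Perm.mem_alternatingGroup.1 (e (x : G)).2, ?_⟩
    have h1 := congrArg (fun z : G => ((e z : alternatingGroup (Fin 7)) : S7))
      (Subgroup.mem_centralizer_iff.mp x.2 g (Subgroup.mem_zpowers g))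
    simp only [hg, map_mul, MulEquiv.apply_symm_apply, Subgroup.coe_mul] at h1
    exact h1.symm
  · refine le_of_eq_of_le hPc.symm (Subgroup.card_le_of_le ?_)
    rw [hP]
    intro x hx
    rw [Subgroup.mem_centralizer_iff]
    intro y hy
    obtain ⟨i, rfl⟩ := Subgroup.mem_zpowers_iff.mp hx
    obtain ⟨j, rfl⟩ := Subgroup.mem_zpowers_iff.mp hy
    rw [← zpow_add, ← zpow_add, add_comm]

theorem two_mem_degreePrimes (e : G ≃* alternatingGroup (Fin 7)) : 2 ∈ degreePrimes G := by
  classical
  haveI := Fintype.ofFinite G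
  letI : MulAction G (Fin 7) :=
    MulAction.compHom (Fin 7) ((alternatingGroup (Fin 7)).subtype.comp e.toMonoidHom)
  have hsm : ∀ (s : G) (i : Fin 7), s • i = ((e s : alternatingGroup (Fin 7)) : S7) i :=
    fun _ _ => rfl
  have hmk : ∀ (σ : S7) (hσ : Equiv.Perm.sign σ = 1) (i : Fin 7),
      e.symm ⟨σ, Equiv.Perm.mem_alternatingGroup.2 hσ⟩ • i = σ i := fun σ hσ i => by
    rw [hsm, e.apply_symm_apply]
  have h0 : ∀ x : Fin 7, ∃ s : G, s • (0 : Fin 7) = x := fun x => by
    obtain ⟨u, v, hx⟩ := move_witness x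
    rcases hx with hx | ⟨h1, h2⟩
    · exact ⟨1, by rw [one_smul, hx]⟩
    · exact ⟨_, (hmk _ h1 0).trans h2⟩
  haveI : MulAction.IsPretransitive G (Fin 7) := MulAction.IsPretransitive.mk fun x y => by
    obtain ⟨a, ha⟩ := h0 x
    obtain ⟨b, hb⟩ := h0 y
    exact ⟨b * a⁻¹, by rw [mul_smul, ← ha, inv_smul_smul, hb]⟩
  set P := Perm.PermChar.permChar G (Fin 7) with hP
  have hquot :
      Nat.card (MulAction.orbitRel.Quotient (MulAction.stabilizer G (0 : Fin 7)) (Fin 7)) = 2 := by
    rw [Nat.card_eq_two_iff]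
    refine ⟨Quotient.mk'' 0, Quotient.mk'' 1, fun h => ?_, ?_⟩
    · obtain ⟨s, hs⟩ := Quotient.exact' h
      have h4 : (s : G) • (0 : Fin 7) = 0 := s.2
      have h5 : (1 : Fin 7) = 0 := smul_left_cancel (s : G) ((show (s : G) • (1 : Fin 7) = 0 from hs).trans h4.symm)
      exact absurd h5 (by decide)
    · refine Set.eq_univ_of_forall fun x => ?_
      induction x using Quotient.inductionOn' with
      | h x =>
        by_cases hx0 : x = 0
        · rw [hx0]; exact Set.mem_insert _ _
        refine Set.mem_insert_of_mem _ (Quotient.eq''.2 ?_)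
        obtain ⟨u, v, hw⟩ := transitive_witness 1 x (by decide) hx0
        rcases hw with rfl | ⟨h1, h2, h3⟩
        · exact ⟨1, one_smul _ _⟩
        · exact ⟨⟨_, (hmk _ h1 0).trans h2⟩, (hmk _ h1 1).trans h3⟩
  have hnorm : classInner P P = 2 := by
    rw [hP, Perm.PermChar.inner_self (0 : Fin 7), hquot, Nat.cast_ofNat]
  obtain ⟨n, hn⟩ := exists_decomposition (Perm.PermChar.isCharacter_permChar (G := G) (Ω := Fin 7))
  set one : IrrCharacter G := ⟨fun _ => 1, isIrrCharacter_one⟩
  have hone : n one = 1 := by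
    have h := Perm.PermChar.inner_one (G := G) (Ω := Fin 7) 0
    rw [decomposition_coeff n hn one] at h
    exact_mod_cast h
  have hsq : ∑ χ, n χ * n χ = 2 := by
    have h := classInner_int_combination (θ := P) (z := fun χ => (n χ : ℤ)) (by
      rw [hP, hn]
      refine Finset.sum_congr rfl fun χ _ => ?_
      rw [Int.cast_natCast, Nat.cast_smul_eq_nsmul])
    rw [hnorm] at h
    exact_mod_cast h.symm
  rw [← Finset.add_sum_erase _ _ (Finset.mem_univ one), hone] at hsq
  obtain ⟨χ, hχ, hχ0⟩ : ∃ χ ∈ Finset.univ.erase one, n χ * n χ ≠ 0 :=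
    Finset.exists_ne_zero_of_sum_ne_zero (by omega)
  rw [← Finset.add_sum_erase _ _ hχ] at hsq
  have hχ1 : n χ = 1 := Nat.eq_one_of_mul_eq_one_left (show n χ * n χ = 1 by omega)
  have hz : ∀ ψ ∈ (Finset.univ.erase one).erase χ, n ψ = 0 := fun ψ hψ =>
    mul_self_eq_zero.1 (Finset.sum_eq_zero_iff.1
      (show ∑ ψ ∈ (Finset.univ.erase one).erase χ, n ψ * n ψ = 0 by omega) ψ hψ)
  have h := congrFun hn 1
  rw [Finset.sum_apply, ← Finset.add_sum_erase _ _ (Finset.mem_univ one),
    ← Finset.add_sum_erase _ _ hχ,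
    Finset.sum_eq_zero fun ψ hψ => by rw [hz ψ hψ, zero_smul, Pi.zero_apply]] at h
  have h7 : Perm.PermChar.permChar G (Fin 7) 1 = 7 := by
    show (Nat.card (MulAction.fixedBy (Fin 7) (1 : G)) : ℂ) = 7
    rw [MulAction.fixedBy_one_eq_univ, Nat.card_congr (Equiv.Set.univ _), Nat.card_fin, Nat.cast_ofNat]
  rw [h7, hone, hχ1, one_smul, one_smul, add_zero, char_one_eq_deg (irr_isCharacter χ.2)] at h
  have h6 : deg (χ : G → ℂ) = 6 := by
    have : ((deg (χ : G → ℂ) : ℕ) : ℂ) = ((6 : ℕ) : ℂ) := by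
      push_cast; linear_combination -h
    exact_mod_cast this
  exact ThreeDegreePrimes.mem_degreePrimes_of Nat.prime_two χ.2 (by rw [h6]; norm_num)

/-- Two, five and seven are degree primes. -/
theorem alt_seven_primes (e : G ≃* alternatingGroup (Fin 7)) :
    2 ∈ degreePrimes G ∧ 5 ∈ degreePrimes G ∧ 7 ∈ degreePrimes G := by
  haveI : Fact (Nat.Prime 5) := ⟨by norm_num⟩
  haveI : Fact (Nat.Prime 7) := ⟨by norm_num⟩
  obtain ⟨h1, h2, h3, h4, h5, h6⟩ := five_facts
  exact ⟨two_mem_degreePrimes e,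
    centralizer_le e five h1 h2 h3 five_centralizer (by norm_num) (by norm_num),
    centralizer_le e _ h4 h5 h6 seven_centralizer (by norm_num) (by norm_num)⟩

end Cfsg.Agent.Char.SmallOrderGraph.Split
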