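import Cfsg.Agent.Lib.Small.DegreeSearch

/-!
# A quick necessary condition for primality
-/

set_option autoImplicit false

namespace Cfsg.Agent.Char.SmallOrderGraph.Split

/-- No divisor below eighty other than one and the number. -/
def maybePrime (q : ℕ) : Bool :=
  decide (2 ≤ q) && (List.range 80).all fun d => !decide (2 ≤ d ∧ d < q ∧ q % d = 0)

theorem maybePrime_of_prime {q : ℕ} (hq : q.Prime) : maybePrime q = true := by
  simp only [maybePrime, Bool.and_eq_true, decide_eq_true_eq, List.all_eq_true, Bool.not_eq_true',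
    decide_eq_false_iff_not]
  refine ⟨hq.two_le, fun d _ ⟨h1, h2, h3⟩ => ?_⟩
  rcases (Nat.dvd_prime hq).mp (Nat.dvd_of_mod_eq_zero h3) with h | h <;> omega

end Cfsg.Agent.Char.SmallOrderGraph.Split
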