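import Cfsg.Agent.Lib.Solv.Basic
import Mathlib

/-!
# A subgroup of prime order acting coprimely
-/

set_option autoImplicit false

namespace Cfsg.Agent.Char.SmallOrderGraph.Split

open Subgroup
open scoped Pointwise

universe u

variable {G : Type u} [Group G] [Finite G]

/-- A normal subgroup of order prime to its index contains the elements of dividing order. -/
theorem mem_of_coprime {V : Subgroup G} [V.Normal] (h : (Nat.card V).Coprime V.index) {x : G}
    (hx : orderOf x ∣ Nat.card V) : x ∈ V := by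
  have h1 : orderOf (QuotientGroup.mk x : G ⧸ V) ∣ Nat.card V :=
    (orderOf_map_dvd (QuotientGroup.mk' V) x).trans hx
  have h2 : orderOf (QuotientGroup.mk x : G ⧸ V) ∣ V.index := orderOf_dvd_natCard _
  exact (QuotientGroup.eq_one_iff x).mp
    (orderOf_eq_one_iff.mp (Nat.eq_one_of_dvd_coprimes h h1 h2))

/-- A normal subgroup of coprime index in a normal subgroup is normal. -/
theorem normal_of_coprime {V K : Subgroup G} [K.Normal] (hVK : V ≤ K)
    (hn : K ≤ normalizer (V : Set G)) (h : (Nat.card V).Coprime (V.relIndex K)) : V.Normal := by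
  haveI : (V.subgroupOf K).Normal := (normal_subgroupOf_iff_le_normalizer hVK).mpr hn
  refine ⟨fun v hv g => ?_⟩
  have hK : g * v * g⁻¹ ∈ K := Subgroup.Normal.conj_mem inferInstance v (hVK hv) g
  have h1 : (⟨_, hK⟩ : K) ∈ V.subgroupOf K := by
    refine mem_of_coprime ?_ ?_
    · rw [Nat.card_congr (subgroupOfEquivOfLe hVK).toEquiv]; exact h
    · rw [Nat.card_congr (subgroupOfEquivOfLe hVK).toEquiv, Subgroup.orderOf_mk,
        show g * v * g⁻¹ = MulAut.conj g v from rfl, MulEquiv.orderOf_eq]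
      exact V.orderOf_dvd_natCard hv
  exact h1

/-- Counting the fixed points of a subgroup of prime order normalising a subgroup. -/
theorem card_fixed_modEq {r : ℕ} [Fact r.Prime] (R V : Subgroup G) (hR : Nat.card R = r)
    (hn : R ≤ normalizer (V : Set G)) :
    Nat.card V ≡ Nat.card (V ⊓ centralizer (R : Set G) : Subgroup G) [MOD r] := by
  letI : MulAction R V :=
    { smul := fun x v => ⟨(x : G) * v * (x : G)⁻¹, (mem_normalizer_iff.mp (hn x.2) v).mp v.2⟩
      one_smul := fun v => Subtype.ext (by show (1 : G) * v * (1 : G)⁻¹ = v; group)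
      mul_smul := fun x y v => Subtype.ext (by
        show ((x : G) * y) * v * ((x : G) * y)⁻¹ = (x : G) * ((y : G) * v * (y : G)⁻¹) * (x : G)⁻¹
        group) }
  have h := IsPGroup.card_modEq_card_fixedPoints (p := r) (IsPGroup.of_card (n := 1)
    (by rw [hR, pow_one]) : IsPGroup r R) V
  refine h.trans (congrArg (fun n : ℕ => n % r) ?_)
  refine Nat.card_congr
    { toFun := fun v => ⟨(v : V), mem_inf.mpr ⟨(v : V).2, mem_centralizer_iff.mpr fun x hx =>
        mul_inv_eq_iff_eq_mul.mp (congrArg Subtype.val (v.2 ⟨x, hx⟩) :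
          x * ((v : V) : G) * x⁻¹ = ((v : V) : G))⟩⟩
      invFun := fun v => ⟨⟨v, (mem_inf.mp v.2).1⟩, fun x => Subtype.ext (by
        show (x : G) * (v : G) * (x : G)⁻¹ = v
        rw [mem_centralizer_iff.mp (mem_inf.mp v.2).2 x x.2, mul_inv_cancel_right])⟩
      left_inv := fun v => rfl
      right_inv := fun v => rfl }

/-- The fixed points of a coprime action of prime order on a `q`-group when no proper power of `q` is `1`
modulo `r`. -/
theorem centralizes_or_free {r q a : ℕ} [Fact r.Prime] (hq : q.Prime) (hqr : q ≠ r)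
    (R V : Subgroup G) (hR : Nat.card R = r) (hV : Nat.card V = q ^ a)
    (hn : R ≤ normalizer (V : Set G)) (hfull : ∀ i, 1 ≤ i → i ≤ a → q ^ i % r = 1 → i = a) :
    R ≤ centralizer (V : Set G) ∨
      (1 ≤ a ∧ q ^ a % r = 1 ∧ V ⊓ centralizer (R : Set G) = ⊥) := by
  have hr : r.Prime := Fact.out
  have hmod := card_fixed_modEq R V hR hn
  set C := V ⊓ centralizer (R : Set G) with hC
  have hCV : Nat.card C ∣ q ^ a := hV ▸ card_dvd_of_le inf_le_left
  obtain ⟨b, hb, hb'⟩ := (Nat.dvd_prime_pow hq).mp hCV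
  rw [hV, hb'] at hmod
  rcases eq_or_lt_of_le hb with e | e
  · left
    have h1 : C = V := eq_of_le_of_card_ge inf_le_left (by rw [hV, hb', e])
    intro x hx
    rw [mem_centralizer_iff]
    intro v hv
    rw [SetLike.mem_coe, ← h1] at hv
    exact (mem_centralizer_iff.mp (mem_inf.mp hv).2 x hx).symm
  right
  have h1 : q ^ (a - b) % r = 1 := by
    have h2 : q ^ b * q ^ (a - b) ≡ q ^ b * 1 [MOD r] := by
      rw [← pow_add, Nat.add_sub_cancel' hb, mul_one]; exact hmod
    have h3 := Nat.ModEq.cancel_left_of_coprime (m := r) (c := q ^ b)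
      (Nat.Coprime.pow_right b ((Nat.coprime_primes hr hq).mpr (Ne.symm hqr))) h2
    rw [h3, Nat.mod_eq_of_lt hr.one_lt]
  have h4 := hfull (a - b) (by omega) (by omega) h1
  have hb0 : b = 0 := by omega
  subst hb0
  exact ⟨by omega, by rwa [Nat.sub_zero] at h1, card_eq_one.mp (by rw [hb', pow_zero])⟩

/-- A `q`-group without non-trivial fixed points under such an action is elementary abelian. -/
theorem elementary_of_free {r q a : ℕ} [Fact r.Prime] (hq : q.Prime) (hqr : q ≠ r) (ha : 1 ≤ a)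
    (R V : Subgroup G) (hR : Nat.card R = r) (hV : Nat.card V = q ^ a)
    (hn : R ≤ normalizer (V : Set G)) (hfull : ∀ i, 1 ≤ i → i ≤ a → q ^ i % r = 1 → i = a)
    (hfree : V ⊓ centralizer (R : Set G) = ⊥) :
    (∀ x ∈ V, ∀ y ∈ V, x * y = y * x) ∧ ∀ x ∈ V, x ^ q = 1 := by
  haveI := Fact.mk hq
  -- an invariant non-trivial subgroup is everything
  have key : ∀ W : Subgroup G, W ≤ V → W ≠ ⊥ → R ≤ normalizer (W : Set G) → W = V := by
    intro W hW hne hWn
    obtain ⟨b, hb, hb'⟩ := (Nat.dvd_prime_pow hq).mp (hV ▸ card_dvd_of_le hW)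
    have hb0 : 1 ≤ b := Nat.pos_of_ne_zero fun e => hne (card_eq_one.mp (by rw [hb', e, pow_zero]))
    have hfW : W ⊓ centralizer (R : Set G) = ⊥ :=
      eq_bot_iff.mpr ((inf_le_inf_right _ hW).trans (le_of_eq hfree))
    have hmod := card_fixed_modEq R W hR hWn
    rw [hfW, card_bot, hb'] at hmod
    have h1 : q ^ b % r = 1 := by
      rw [hmod, Nat.mod_eq_of_lt (Fact.out : r.Prime).one_lt]
    exact eq_of_le_of_card_ge hW (by rw [hV, hb', hfull b hb0 hb h1])
  have hVp : IsPGroup q V := IsPGroup.of_card hV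
  haveI : Nontrivial V := by
    rw [← Finite.one_lt_card_iff_nontrivial, hV]; exact Nat.one_lt_pow (by omega) hq.one_lt
  haveI := hVp.center_nontrivial
  set Z : Subgroup G := (center V).map V.subtype with hZdef
  have hZne : Z ≠ ⊥ := by
    rw [hZdef, Ne, map_eq_bot_iff_of_injective _ V.subtype_injective]
    exact (nontrivial_iff_ne_bot _).mp inferInstance
  have hZn : R ≤ normalizer (Z : Set G) := by
    intro x hx
    refine mem_normalizer_fintype fun z hz => ?_
    obtain ⟨z', hz', rfl⟩ := hz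
    refine ⟨⟨x * z' * x⁻¹, (mem_normalizer_iff.mp (hn hx) _).mp z'.2⟩, ?_, rfl⟩
    rw [SetLike.mem_coe, mem_center_iff]
    intro v
    have hv' : x⁻¹ * (v : G) * x ∈ V := (mem_normalizer_iff''.mp (hn hx) _).mp v.2
    have h := congrArg Subtype.val (mem_center_iff.mp hz' ⟨_, hv'⟩)
    refine Subtype.ext ?_
    simp only [Subgroup.coe_mul] at h ⊢
    calc (v : G) * (x * z' * x⁻¹) = x * (x⁻¹ * v * x * z') * x⁻¹ := by group
      _ = x * (z' * (x⁻¹ * v * x)) * x⁻¹ := by rw [h]
      _ = x * z' * x⁻¹ * v := by group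
  have hZeq := key Z (map_subtype_le _) hZne hZn
  have hcomm : ∀ x ∈ V, ∀ y ∈ V, x * y = y * x := by
    intro x hx y hy
    have hxZ : x ∈ Z := by rw [hZeq]; exact hx
    obtain ⟨z, hz, hz'⟩ := hxZ
    have h := congrArg Subtype.val (mem_center_iff.mp hz ⟨y, hy⟩)
    simp only [Subgroup.coe_mul] at h
    rw [← hz']
    exact h.symm
  refine ⟨hcomm, ?_⟩
  let W : Subgroup G :=
    { carrier := {x | x ∈ V ∧ x ^ q = 1}
      one_mem' := ⟨V.one_mem, one_pow q⟩
      mul_mem' := fun {x y} hx hy => ⟨V.mul_mem hx.1 hy.1, by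
        rw [(show Commute x y from hcomm x hx.1 y hy.1).mul_pow, hx.2, hy.2, one_mul]⟩
      inv_mem' := fun {x} hx => ⟨V.inv_mem hx.1, by rw [inv_pow, hx.2, inv_one]⟩ }
  have hWne : W ≠ ⊥ := by
    obtain ⟨x, hx⟩ := exists_prime_orderOf_dvd_card' (G := V) q (by rw [hV]; exact dvd_pow_self q (by omega))
    intro e
    have : (x : G) ∈ W := ⟨x.2, by rw [← hx, ← Subgroup.orderOf_coe, pow_orderOf_eq_one]⟩
    rw [e, mem_bot] at this
    rw [← Subgroup.orderOf_coe, this, orderOf_one] at hx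
    exact hq.one_lt.ne hx
  have hWn : R ≤ normalizer (W : Set G) := fun x hx => mem_normalizer_fintype fun w hw =>
    ⟨(mem_normalizer_iff.mp (hn hx) w).mp hw.1, by rw [conj_pow, hw.2, mul_one, mul_inv_cancel]⟩
  intro x hx
  have : x ∈ W := by rw [key W (fun y hy => hy.1) hWne hWn]; exact hx
  exact this.2

/-- A prime order subgroup normalising a group of prime to `r` order centralises it, or is free on an
elementary abelian Sylow subgroup of it. -/
theorem centralizes_or_bad {r : ℕ} [Fact r.Prime] (R P : Subgroup G) (hR : Nat.card R = r)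
    (hrP : ¬ r ∣ Nat.card P) (hn : R ≤ normalizer (P : Set G))
    (hfull : ∀ q, q.Prime → ∀ i a, 1 ≤ i → i ≤ a → q ^ a ∣ Nat.card P → q ^ i % r = 1 → i = a) :
    R ≤ centralizer (P : Set G) ∨ ∃ (q a : ℕ) (Q : Subgroup G), q.Prime ∧ 1 ≤ a ∧ Q ≤ P ∧
      Nat.card Q = q ^ a ∧ ¬ q ^ (a + 1) ∣ Nat.card P ∧ q ^ a % r = 1 ∧
      (∀ x ∈ Q, ∀ y ∈ Q, x * y = y * x) ∧ (∀ x ∈ Q, x ^ q = 1) := by
  classical
  have hr : r.Prime := Fact.out
  by_cases hc : ∀ q, q.Prime → q ^ (Nat.card P).factorization q ∣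
      Nat.card (P ⊓ centralizer (R : Set G) : Subgroup G)
  · left
    have hdvd : Nat.card P ∣ Nat.card (P ⊓ centralizer (R : Set G) : Subgroup G) := by
      rw [← Nat.factorization_prime_le_iff_dvd Nat.card_pos.ne' Nat.card_pos.ne']
      exact fun q hq => (hq.pow_dvd_iff_le_factorization Nat.card_pos.ne').mp (hc q hq)
    have h1 : P ⊓ centralizer (R : Set G) = P :=
      eq_of_le_of_card_ge inf_le_left (Nat.le_of_dvd Nat.card_pos hdvd)
    intro x hx
    rw [mem_centralizer_iff]
    intro v hv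
    rw [SetLike.mem_coe, ← h1] at hv
    exact (mem_centralizer_iff.mp (mem_inf.mp hv).2 x hx).symm
  right
  push Not at hc
  obtain ⟨q, hq, hqc⟩ := hc
  haveI := Fact.mk hq
  set a := (Nat.card P).factorization q with ha
  have ha1 : 1 ≤ a := Nat.pos_of_ne_zero fun e => hqc (by rw [e, pow_zero]; exact one_dvd _)
  have hqP : q ^ a ∣ Nat.card P := Nat.ordProj_dvd _ _
  have hqr : q ≠ r := fun e => hrP (e ▸ (dvd_pow_self q (by omega)).trans hqP)
  letI : MulAction R (Sylow q P) :=
    MulAction.compHom _ (P.normalizerMonoidHom.comp (inclusion hn))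
  obtain ⟨Q₀, hQ₀⟩ : ∃ Q : Sylow q P, Q ∈ MulAction.fixedPoints R (Sylow q P) := by
    refine (IsPGroup.nonempty_fixed_point_of_prime_not_dvd_card
      (IsPGroup.of_card (n := 1) (by rw [hR, pow_one]) : IsPGroup r R) (Sylow q P) fun h => hrP ?_)
    obtain ⟨Q⟩ := (inferInstance : Nonempty (Sylow q P))
    exact h.trans (Q.card_dvd_index.trans (index_dvd_card _))
  set Q : Subgroup G := (Q₀ : Subgroup P).map P.subtype with hQ
  have hQc : Nat.card Q = q ^ a := by
    rw [hQ, card_map_of_injective P.subtype_injective]; exact Q₀.card_eq_multiplicity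
  have hQP : Q ≤ P := map_subtype_le _
  have hQn : R ≤ normalizer (Q : Set G) := by
    intro x hx
    refine mem_normalizer_fintype fun y hy => ?_
    obtain ⟨y', hy', rfl⟩ := hy
    have h1 := hQ₀ ⟨x, hx⟩
    have h2 : P.normalizerMonoidHom (inclusion hn ⟨x, hx⟩) • y' ∈
        ((P.normalizerMonoidHom (inclusion hn ⟨x, hx⟩) • Q₀ : Sylow q P) : Subgroup P) := by
      rw [Sylow.pointwise_smul_def]
      exact Subgroup.smul_mem_pointwise_smul _ _ _ hy'
    rw [show P.normalizerMonoidHom (inclusion hn ⟨x, hx⟩) • Q₀ = Q₀ from h1] at h2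
    exact ⟨_, h2, rfl⟩
  have hfullQ : ∀ i, 1 ≤ i → i ≤ a → q ^ i % r = 1 → i = a := fun i h1 h2 h3 =>
    hfull q hq i a h1 h2 hqP h3
  rcases centralizes_or_free hq hqr R Q hR hQc hQn hfullQ with h | ⟨-, hmod, hfree⟩
  · exfalso
    refine hqc (hQc ▸ card_dvd_of_le (le_inf hQP fun y hy => ?_))
    rw [mem_centralizer_iff]
    exact fun x hx => (mem_centralizer_iff.mp (h hx) y hy).symm
  obtain ⟨hcomm, hexp⟩ := elementary_of_free hq hqr ha1 R Q hR hQc hQn hfullQ hfree
  exact ⟨q, a, Q, hq, ha1, hQP, hQc, Nat.pow_succ_factorization_not_dvd Nat.card_pos.ne' hq,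
    hmod, hcomm, hexp⟩

end Cfsg.Agent.Char.SmallOrderGraph.Split
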