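import Cfsg.Agent.Lib.Char.ThreeDegreePrimes
import Cfsg.Agent.Lib.Char.DegreeDvd
import Cfsg.Agent.Lib.Char.RootUnityValues
import Cfsg.Agent.Lib.Char.SmallOrderGraph.Split.Check

/-!
# Degree primes and edges through normal subgroups and quotients
-/

set_option autoImplicit false

namespace Cfsg.Agent.Char.SmallOrderGraph.Split

open Cfsg Cfsg.Agent.Char

universe u

variable {G : Type u} [Group G] [Finite G]

theorem deg_mem_charDegrees {χ : G → ℂ} (hχ : IsIrrCharacter G χ) : deg χ ∈ charDegrees G :=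
  ⟨⟨χ, hχ⟩, rfl⟩

/-- The primes of a normal abelian subgroup of coprime index divide no degree. -/
theorem not_mem_degreePrimes (V : Subgroup G) [V.Normal] (hc : ∀ x ∈ V, ∀ y ∈ V, x * y = y * x)
    (hcop : (Nat.card V).Coprime V.index) {s : ℕ} (hs : s ∣ Nat.card V) :
    s ∉ degreePrimes G := by
  rintro ⟨hsp, d, ⟨χ, rfl⟩, hd⟩
  have h := deg_dvd_index_abelian_normal χ.2 V fun a b => Subtype.ext (hc a a.2 b b.2)
  exact hsp.ne_one (Nat.eq_one_of_dvd_coprimes hcop hs (hd.trans h))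

theorem sum_norm_sq [Fintype G] {χ : G → ℂ} (hχ : IsIrrCharacter G χ) :
    ∑ g : G, ‖χ g‖ ^ 2 = (Nat.card G : ℝ) := by
  have h := classInner_self_re χ
  rw [irr_self hχ] at h
  have h1 : (Nat.card G : ℝ)⁻¹ * ∑ g, ‖χ g‖ ^ 2 = 1 := by exact_mod_cast h.symm
  exact ((inv_mul_eq_iff_eq_mul₀ (Nat.cast_ne_zero.mpr Nat.card_pos.ne')).mp h1).trans (mul_one _)

/-- The square of a degree times the order of a central subgroup is at most the order. -/
theorem deg_sq_mul_le {χ : G → ℂ} (hχ : IsIrrCharacter G χ) (Z : Subgroup G)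
    (hZ : Z ≤ Subgroup.center G) : deg χ ^ 2 * Nat.card Z ≤ Nat.card G := by
  classical
  haveI := Fintype.ofFinite G
  have h := Finset.sum_le_univ_sum_of_nonneg (s := Finset.univ.filter fun g : G => g ∈ Z)
    (f := fun g : G => ‖χ g‖ ^ 2) fun g => sq_nonneg _
  rw [sum_norm_sq hχ, Finset.sum_congr rfl (g := fun _ => (deg χ : ℝ) ^ 2) fun g hg => by
    rw [RootValues.norm_of_center ⟨χ, hχ⟩ (hZ (Finset.mem_filter.mp hg).2)],
    Finset.sum_const, nsmul_eq_mul, ← Fintype.card_subtype, ← Nat.card_eq_fintype_card] at h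
  rw [mul_comm]
  exact_mod_cast h

/-- Every degree of a normal subgroup divides a degree of the group. -/
theorem exists_deg_dvd (N : Subgroup G) [N.Normal] {θ : N → ℂ} (hθ : IsIrrCharacter N θ) :
    ∃ χ : G → ℂ, IsIrrCharacter G χ ∧ deg θ ∣ deg χ := by
  classical
  have := Fintype.ofFinite G
  have := Fintype.ofFinite N
  set θ' : IrrCharacter N := ⟨θ, hθ⟩ with hθ'
  obtain ⟨χ, hχ⟩ := AbelianIndex.exists_constituent N θ'.2
  have hne := AbelianIndex.inner_restrict_ne N _ χ hχ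
  have hcl := clifford_restrict χ θ' hne
  obtain ⟨e, he⟩ := classInner_natCast
    (isCharacter_comp N.subtype (irr_isCharacter χ.2)) (irr_isCharacter hθ)
  have he' : classInner (fun n : N => (χ : G → ℂ) n) (θ' : N → ℂ) = (e : ℂ) := he
  have hsum1 : (∑ φ ∈ cliffOrbit N θ', (φ : N → ℂ)) (1 : N)
      = (((cliffOrbit N θ').card * deg θ : ℕ) : ℂ) := by
    rw [Finset.sum_apply, Nat.cast_mul, ← nsmul_eq_mul, ← Finset.sum_const]
    refine Finset.sum_congr rfl fun φ hφ => ?_
    obtain ⟨g, rfl⟩ := mem_cliffOrbit.1 hφ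
    rw [irrComp_apply, map_one]
    exact char_one_eq_deg (irr_isCharacter hθ)
  refine ⟨χ, χ.2, e * (cliffOrbit N θ').card, ?_⟩
  have h1 := congrFun hcl 1
  rw [Pi.smul_apply, smul_eq_mul, hsum1, he', Subgroup.coe_one,
    char_one_eq_deg (irr_isCharacter χ.2), ← Nat.cast_mul, Nat.cast_inj] at h1
  rw [h1]
  ring

/-- Edges of a normal subgroup are edges of the group. -/
theorem adj_of_normal (N : Subgroup G) [N.Normal] {p q : ℕ} (h : (degreeGraph N).Adj p q) :
    (degreeGraph G).Adj p q := by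
  obtain ⟨hpq, hp, hq, d, ⟨θ, rfl⟩, hd⟩ := h
  obtain ⟨χ, hχ, h1⟩ := exists_deg_dvd N θ.2
  exact ⟨hpq, hp, hq, _, deg_mem_charDegrees hχ, hd.trans h1⟩

/-- Edges of a quotient are edges of the group. -/
theorem adj_of_quotient (N : Subgroup G) [N.Normal] {p q : ℕ} (h : (degreeGraph (G ⧸ N)).Adj p q) :
    (degreeGraph G).Adj p q := by
  have := Fintype.ofFinite G
  have := Fintype.ofFinite (G ⧸ N)
  obtain ⟨hpq, hp, hq, d, ⟨χ, rfl⟩, hd⟩ := h
  refine ⟨hpq, hp, hq, _, deg_mem_charDegrees (isIrr_inflate N χ.2), ?_⟩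
  simpa [deg, charDegree_eq_deg, QuotientGroup.mk_one] using hd

/-- The product of characters of the two factors of a direct decomposition. -/
theorem exists_deg_prod (P K : Subgroup G) [P.Normal] [K.Normal] (hinf : P ⊓ K = ⊥)
    (hcard : Nat.card P * Nat.card K = Nat.card G) {θ : G ⧸ K → ℂ} {φ : G ⧸ P → ℂ}
    (hθ : IsIrrCharacter (G ⧸ K) θ) (hφ : IsIrrCharacter (G ⧸ P) φ) :
    deg θ * deg φ ∈ charDegrees G := by
  classical
  haveI := Fintype.ofFinite G
  haveI := Fintype.ofFinite (G ⧸ K)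
  haveI := Fintype.ofFinite (G ⧸ P)
  set χ : G → ℂ := fun g => θ (QuotientGroup.mk g) * φ (QuotientGroup.mk g) with hχdef
  have hθ' := irr_isCharacter (isIrr_inflate K hθ)
  have hφ' := irr_isCharacter (isIrr_inflate P hφ)
  have hχ : IsCharacter G χ := isCharacter_mul hθ' hφ'
  have hbij : Function.Bijective
      ((QuotientGroup.mk' K).prod (QuotientGroup.mk' P)) := by
    refine (Nat.bijective_iff_injective_and_card _).mpr ⟨(injective_iff_map_eq_one _).mpr
      fun g hg => ?_, ?_⟩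
    · rw [MonoidHom.prod_apply, Prod.mk_eq_one, QuotientGroup.mk'_apply, QuotientGroup.mk'_apply,
        QuotientGroup.eq_one_iff, QuotientGroup.eq_one_iff] at hg
      exact Subgroup.mem_bot.mp (hinf ▸ Subgroup.mem_inf.mpr ⟨hg.2, hg.1⟩)
    · have h1 := Subgroup.card_eq_card_quotient_mul_card_subgroup K
      have h2 := Subgroup.card_eq_card_quotient_mul_card_subgroup P
      have hK : Nat.card (G ⧸ K) = Nat.card P := Nat.eq_of_mul_eq_mul_right Nat.card_pos
        (h1.symm.trans hcard.symm)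
      have hP : Nat.card (G ⧸ P) = Nat.card K := Nat.eq_of_mul_eq_mul_right Nat.card_pos
        (h2.symm.trans (hcard.symm.trans (mul_comm _ _)))
      rw [Nat.card_prod, hK, hP, hcard]
  have hnorm : classInner χ χ = 1 := by
    have h1 : ∑ g : G, ‖χ g‖ ^ 2 = (Nat.card G : ℝ) := by
      rw [Fintype.sum_bijective _ hbij (fun g => ‖χ g‖ ^ 2)
        (fun x : (G ⧸ K) × (G ⧸ P) => ‖θ x.1‖ ^ 2 * ‖φ x.2‖ ^ 2)
        (fun g => by rw [hχdef, norm_mul, mul_pow]; rfl),
        Fintype.sum_prod_type]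
      simp only [← Finset.sum_mul_sum]
      rw [sum_norm_sq hθ, sum_norm_sq hφ, ← Nat.cast_mul,
        ← Nat.card_prod, ← Nat.card_congr (Equiv.ofBijective _ hbij)]
    rw [classInner_self_re, h1, inv_mul_cancel₀ (Nat.cast_ne_zero.mpr Nat.card_pos.ne'),
      Complex.ofReal_one]
  have h2 := char_one_eq_deg hχ
  simp only [hχdef, QuotientGroup.mk_one] at h2
  rw [char_one_eq_deg (irr_isCharacter hθ), char_one_eq_deg (irr_isCharacter hφ)] at h2
  have h3 : deg θ * deg φ = deg χ := by exact_mod_cast h2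
  rw [h3]
  exact deg_mem_charDegrees (isIrr_of_norm_one hχ hnorm)

/-- A non-solvable group with three prime divisors has them all as degree primes. -/
theorem mem_degreePrimes_of_three (hns : ¬ Group.IsSolvable G) {N : ℕ} (hN : Nat.card G = N)
    {a b c : ℕ} (h : ∀ p ∈ Small.DegreeSearch.divs N, maybePrime p = true → p = a ∨ p = b ∨ p = c) :
    a ∈ degreePrimes G ∧ b ∈ degreePrimes G ∧ c ∈ degreePrimes G := by
  obtain ⟨x, y, z, hxy, hyz, hxz, hx, hy, hz⟩ := ThreeDegreePrimes.three_degreePrimes hns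
  have key : ∀ p ∈ degreePrimes G, p = a ∨ p = b ∨ p = c := by
    rintro p ⟨hp, d, ⟨χ, rfl⟩, hd⟩
    exact h p (Small.DegreeSearch.mem_divs (hN ▸ Nat.card_pos.ne')
      (hN ▸ hd.trans (deg_dvd_card χ.2))) (maybePrime_of_prime hp)
  have e1 := key x hx
  have e2 := key y hy
  have e3 := key z hz
  rcases e1 with rfl | rfl | rfl <;> rcases e2 with rfl | rfl | rfl <;>
    rcases e3 with rfl | rfl | rfl <;>
    first | exact ⟨by assumption, by assumption, by assumption⟩ | contradiction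

end Cfsg.Agent.Char.SmallOrderGraph.Split
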