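import Cfsg.Agent.Lib.Char.SmallOrderGraph.Split.Degrees
import Cfsg.Agent.Lib.Char.SmallOrderGraph.Block

/-!
# The symmetric group of degree five has a degree divisible by six
-/

set_option autoImplicit false

namespace Cfsg.Agent.Char.SmallOrderGraph.Split

open Cfsg Cfsg.Agent.Char

universe u

/-- A five cycle. -/
def fiveCycle : Equiv.Perm (Fin 5) := finRotate 5

set_option maxRecDepth 8000 in
theorem fiveCycle_conj : ∀ x : Equiv.Perm (Fin 5), x ^ 5 = 1 → x ≠ 1 →
    ∃ c : Equiv.Perm (Fin 5), c * fiveCycle * c⁻¹ = x := by decide +kernel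

theorem card_pow_five :
    (Finset.univ.filter fun x : Equiv.Perm (Fin 5) => x ^ 5 = 1 ∧ x ≠ 1).card = 24 := by
  decide +kernel

theorem fiveCycle_pow : fiveCycle ^ 5 = 1 ∧ fiveCycle ≠ 1 := by decide +kernel

theorem perm_five_adj {H : Type u} [Group H] [Finite H] (e : H ≃* Equiv.Perm (Fin 5)) :
    (degreeGraph H).Adj 2 3 := by
  classical
  haveI := Fintype.ofFinite H
  have hns : ¬ Group.IsSolvable H := fun h => Equiv.Perm.fin_5_not_solvable
    (haveI := h; Group.isSolvable_of_surjective (f := e.toMonoidHom) e.surjective)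
  have hH : Nat.card H = 120 := by
    rw [Nat.card_congr e.toEquiv, Nat.card_perm, Nat.card_fin]; rfl
  obtain ⟨-, ⟨-, d, ⟨χ, rfl⟩, h3⟩, -⟩ :=
    mem_degreePrimes_of_three hns hH (a := 2) (b := 3) (c := 5) (by decide +kernel)
  rw [charDegree_eq_deg] at h3
  have hdvd : deg (χ : H → ℂ) ∣ 120 := hH ▸ deg_dvd_card χ.2
  have hle : deg (χ : H → ℂ) ^ 2 ≤ 120 := by
    have := deg_sq_mul_le χ.2 ⊥ bot_le
    rwa [Subgroup.card_bot, mul_one, hH] at this
  have hle' : deg (χ : H → ℂ) ≤ 10 := by nlinarith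
  obtain hd | hd : deg (χ : H → ℂ) = 3 ∨ deg (χ : H → ℂ) = 6 := by
    obtain ⟨n, hn⟩ : ∃ n, deg (χ : H → ℂ) = n := ⟨_, rfl⟩
    rw [hn] at h3 hdvd hle' ⊢
    interval_cases n <;> omega
  swap
  · exact ⟨by norm_num, Nat.prime_two, Nat.prime_three, _, deg_mem_charDegrees χ.2, by rw [hd]⟩
  exfalso
  -- degree three: the values on the elements of order five
  set g : H := e.symm fiveCycle with hg
  have hg5 : g ^ 5 = 1 := by rw [hg, ← map_pow, fiveCycle_pow.1, map_one]
  have hg1 : g ≠ 1 := fun h => fiveCycle_pow.2 (by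
    rw [← e.apply_symm_apply fiveCycle, ← hg, h, map_one])
  have hconj : ∀ x : H, x ^ 5 = 1 → x ≠ 1 → (χ : H → ℂ) x = (χ : H → ℂ) g := by
    intro x hx hx1
    obtain ⟨c, hc⟩ := fiveCycle_conj (e x) (by rw [← map_pow, hx, map_one])
      fun h => hx1 (e.injective (h.trans (map_one e).symm))
    have h1 : x = e.symm c * g * (e.symm c)⁻¹ := by
      rw [hg, ← map_inv, ← map_mul, ← map_mul, hc, e.symm_apply_apply]
    rw [h1]
    exact isClassFunction_character (irr_isCharacter χ.2) g (e.symm c)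
  obtain ⟨z, hz⟩ := int_of_pow_fixed (irr_isCharacter χ.2) (g := g) fun k hk => by
    refine hconj _ (by rw [← pow_mul, mul_comm, pow_mul, hg5, one_pow]) fun h => hg1 ?_
    have h1 : orderOf g ∣ k := orderOf_dvd_of_pow_eq_one h
    exact orderOf_eq_one_iff.mp
      (Nat.eq_one_of_dvd_coprimes hk h1 (orderOf_dvd_natCard g))
  haveI : Fact (Nat.Prime 5) := ⟨by norm_num⟩
  have ho : orderOf g = 5 := orderOf_eq_prime hg5 hg1
  haveI := Fintype.ofFinite (Subgroup.zpowers g)
  obtain ⟨n, hn⟩ := classInner_natCast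
    (isCharacter_comp (Subgroup.zpowers g).subtype (irr_isCharacter χ.2))
    (irr_isCharacter (isIrrCharacter_one (G := Subgroup.zpowers g)))
  simp only [classInner, Function.comp_apply, map_one, mul_one] at hn
  rw [← Finset.add_sum_erase _ _ (Finset.mem_univ (1 : Subgroup.zpowers g)),
    Finset.sum_congr rfl (g := fun _ => (z : ℂ)) fun a ha => by
      show (χ : H → ℂ) (a : H) = _
      rw [← hz]
      refine hconj _ ?_ fun h => Finset.ne_of_mem_erase ha (Subtype.ext h)
      refine orderOf_dvd_iff_pow_eq_one.mp ?_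
      have := (Subgroup.zpowers g).orderOf_dvd_natCard a.2
      rwa [Nat.card_zpowers, ho] at this,
    Finset.sum_const, Finset.card_erase_of_mem (Finset.mem_univ _), Finset.card_univ,
    ← Nat.card_eq_fintype_card, Nat.card_zpowers, ho, map_one,
    char_one_eq_deg (irr_isCharacter χ.2), hd, nsmul_eq_mul,
    inv_mul_eq_iff_eq_mul₀ (by norm_num)] at hn
  have hn' : (3 : ℤ) + 4 * z = 5 * n := by
    have : ((3 + 4 * z : ℤ) : ℂ) = ((5 * n : ℤ) : ℂ) := by
      push_cast; norm_num at hn; exact hn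
    exact_mod_cast this
  have hz3 : (3 : ℤ) ≤ z := by omega
  -- too large a norm
  have hsum := Finset.sum_le_univ_sum_of_nonneg
    (s := insert (1 : H) ((Finset.univ.filter fun x : Equiv.Perm (Fin 5) => x ^ 5 = 1 ∧ x ≠ 1).map
      e.symm.toEquiv.toEmbedding))
    (f := fun x : H => ‖(χ : H → ℂ) x‖ ^ 2) fun x => sq_nonneg _
  have hnotin : (1 : H) ∉ (Finset.univ.filter fun x : Equiv.Perm (Fin 5) => x ^ 5 = 1 ∧ x ≠ 1).map
      e.symm.toEquiv.toEmbedding := by
    simp only [Finset.mem_map, Finset.mem_filter, Finset.mem_univ, true_and, not_exists]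
    rintro x ⟨⟨-, hx⟩, h⟩
    exact hx (e.symm.injective (h.trans (map_one e.symm).symm))
  rw [sum_norm_sq χ.2, hH, Finset.sum_insert hnotin, Finset.sum_map,
    Finset.sum_congr rfl (g := fun _ => ((z : ℝ)) ^ 2) fun x hx => by
      obtain ⟨-, hx5, hx1⟩ := Finset.mem_filter.mp hx
      show ‖(χ : H → ℂ) (e.symm x)‖ ^ 2 = _
      rw [hconj _ (by rw [← map_pow, hx5, map_one]) fun h => hx1 (e.symm.injective
        (h.trans (map_one e.symm).symm)), hz, Complex.norm_intCast, sq_abs],
    Finset.sum_const, card_pow_five, char_one_eq_deg (irr_isCharacter χ.2), hd,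
    Complex.norm_natCast, nsmul_eq_mul] at hsum
  have h9 : (9 : ℝ) ≤ (z : ℝ) ^ 2 := by
    have : (3 : ℝ) ≤ z := by exact_mod_cast hz3
    nlinarith
  norm_num at hsum
  linarith

end Cfsg.Agent.Char.SmallOrderGraph.Split
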