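import Cfsg.Agent.Lib.Char.SmallOrderGraph.Split.AltSevenPrimes
import Cfsg.Agent.S4774
import Cfsg.Agent.S4812
import Cfsg.Agent.S0254
import Cfsg.Agent.S0495
import Cfsg.Agent.S0497
import Cfsg.Agent.S0498
import Cfsg.Agent.S1011
import Cfsg.Agent.S1021
import Cfsg.Agent.S0981
import Cfsg.Agent.S0984

/-!
# Degree primes and edges of the simple groups of order less than 6000
-/

set_option autoImplicit false

namespace Cfsg.Agent.Char.SmallOrderGraph.Split

open Cfsg

universe u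

variable {S : Type u} [Group S] [Finite S] [IsSimpleGroup S]

omit [Finite S] in
theorem not_solvable (hna : ¬ IsMulCommutative S) : ¬ Group.IsSolvable S := fun h =>
  hna ⟨⟨IsSimpleGroup.comm_iff_isSolvable.mpr h⟩⟩

theorem three_facts (hna : ¬ IsMulCommutative S) {N : ℕ} (hN : Nat.card S = N) (a b c : ℕ)
    (h : ∀ p ∈ Small.DegreeSearch.divs N, maybePrime p = true → p = a ∨ p = b ∨ p = c) :
    a ∈ degreePrimes S ∧ b ∈ degreePrimes S ∧ c ∈ degreePrimes S :=
  mem_degreePrimes_of_three (not_solvable hna) hN h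

theorem eleven_mem (h : Nat.card S = 660) : 11 ∈ degreePrimes S := by
  haveI : Fact (Nat.Prime 11) := ⟨by norm_num⟩
  obtain ⟨hd, -⟩ := S4774.result (ZMod 11) 11 (by norm_num) 11 (ZMod.card 11) (by norm_num) (S := S)
    (Or.inl (S0498.result 11 (Or.inl rfl) (by rw [h]; norm_num) (ZMod.card 11)))
  rw [hd]
  exact ⟨by norm_num, by norm_num⟩

theorem thirteen_mem (h : Nat.card S = 1092) : 13 ∈ degreePrimes S := by
  haveI : Fact (Nat.Prime 13) := ⟨by norm_num⟩
  obtain ⟨hd, -⟩ := S4774.result (ZMod 13) 13 (by norm_num) 13 (ZMod.card 13) (by norm_num) (S := S)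
    (Or.inl (S0498.result 13 (Or.inr rfl) (by rw [h]; norm_num) (ZMod.card 13)))
  rw [hd]
  exact ⟨by norm_num, by norm_num⟩

theorem nineteen_mem (h : Nat.card S = 3420) : 19 ∈ degreePrimes S := by
  haveI : Fact (Nat.Prime 19) := ⟨by norm_num⟩
  obtain ⟨hd, -⟩ := S4774.result (ZMod 19) 19 (by norm_num) 19 (ZMod.card 19) (by norm_num) (S := S)
    (Or.inl (S1021.result h (ZMod.card 19)))
  rw [hd]
  exact ⟨by norm_num, by norm_num⟩

theorem seventeen_mem (h : Nat.card S = 4080) : 17 ∈ degreePrimes S := by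
  haveI : Fact (Nat.Prime 2) := ⟨Nat.prime_two⟩
  letI : Fintype (GaloisField 2 4) := Fintype.ofFinite _
  have hF : Fintype.card (GaloisField 2 4) = 16 := by
    rw [← Nat.card_eq_fintype_card, GaloisField.card 2 4 (by norm_num)]; norm_num
  obtain ⟨hd, -⟩ := S4812.result (GaloisField 2 4) 16 hF (by norm_num) (S := S)
    (Or.inl (S0981.result h hF))
  rw [hd]
  exact ⟨by norm_num, by norm_num⟩

theorem adj_168 (h : Nat.card S = 168) : (degreeGraph S).Adj 2 3 := by
  haveI : Fact (Nat.Prime 7) := ⟨by norm_num⟩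
  obtain ⟨-, ha⟩ := S4774.result (ZMod 7) 7 (by norm_num) 7 (ZMod.card 7) (by norm_num) (S := S)
    (Or.inl (S0495.result h (ZMod.card 7)))
  rw [ha]
  norm_num

theorem not_adj_504 (h : Nat.card S = 504) : ¬ (degreeGraph S).Adj 2 3 := by
  haveI : Fact (Nat.Prime 2) := ⟨Nat.prime_two⟩
  letI : Fintype (GaloisField 2 3) := Fintype.ofFinite _
  have hF : Fintype.card (GaloisField 2 3) = 8 := by
    rw [← Nat.card_eq_fintype_card, GaloisField.card 2 3 (by norm_num)]; norm_num
  obtain ⟨-, ha⟩ := S4812.result (GaloisField 2 3) 8 hF (by norm_num) (S := S)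
    (Or.inl (S1011.result h hF))
  rw [ha]
  norm_num

theorem adj_360 (h : Nat.card S = 360) :
    (degreeGraph S).Adj 2 5 ∧ ¬ (degreeGraph S).Adj 2 3 := by
  haveI : Fact (Nat.Prime 3) := ⟨Nat.prime_three⟩
  letI : Fintype (GaloisField 3 2) := Fintype.ofFinite _
  have hF : Fintype.card (GaloisField 3 2) = 9 := by
    rw [← Nat.card_eq_fintype_card, GaloisField.card 3 2 (by norm_num)]; norm_num
  obtain ⟨e⟩ := S0497.result h
  obtain ⟨e'⟩ := S0254.result hF
  obtain ⟨-, ha⟩ := S4774.result (GaloisField 3 2) 3 (by norm_num) 9 hF (by norm_num) (S := S)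
    (Or.inl ⟨e.trans e'.symm⟩)
  rw [ha, ha]
  norm_num

theorem facts_2520 (h : Nat.card S = 2520) :
    2 ∈ degreePrimes S ∧ 5 ∈ degreePrimes S ∧ 7 ∈ degreePrimes S := by
  obtain ⟨e⟩ := S0984.result h
  exact alt_seven_primes e

end Cfsg.Agent.Char.SmallOrderGraph.Split
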