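import Cfsg.Agent.Lib.Lie.OrderSixty

/-!
# The five Sylow two-subgroups of a normal simple subgroup of order sixty
-/

set_option autoImplicit false

namespace Cfsg.Agent.Char.SmallOrderGraph.Split

open Subgroup

universe u

theorem card_sylow_two {G : Type u} [Group G] [Finite G] [hs : IsSimpleGroup G]
    (h : Nat.card G = 60) : Nat.card (Sylow 2 G) = 5 := by
  haveI := Fact.mk Nat.prime_two
  obtain ⟨P⟩ : Nonempty (Sylow 2 G) := inferInstance
  have hfac : (60 : ℕ).factorization 2 = 2 := by
    rw [show (60 : ℕ) = 2 ^ 2 * 15 by norm_num, Nat.factorization_mul (by norm_num) (by norm_num),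
      Finsupp.add_apply, Nat.factorization_pow_self Nat.prime_two,
      Nat.factorization_eq_zero_of_not_dvd (by norm_num : ¬ 2 ∣ 15)]
  have hP : Nat.card (P : Subgroup G) = 4 := by
    rw [P.card_eq_multiplicity, h, hfac]; rfl
  have hPne : (P : Subgroup G) ≠ ⊥ := fun e => by rw [e, Subgroup.card_bot] at hP; omega
  have hPnt : (P : Subgroup G) ≠ ⊤ := fun e => by rw [e, Subgroup.card_top, h] at hP; omega
  have hdvd : Nat.card (Sylow 2 G) ∣ 15 := by
    have h1 := P.card_dvd_index
    have h2 := (P : Subgroup G).card_mul_index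
    rw [hP, h] at h2
    rwa [show (P : Subgroup G).index = 15 by omega] at h1
  by_contra h5
  have hle := Nat.le_of_dvd (by norm_num) hdvd
  have hcases : Nat.card (Sylow 2 G) = 1 ∨ Nat.card (Sylow 2 G) = 3 ∨ Nat.card (Sylow 2 G) = 15 := by
    obtain ⟨k, hk⟩ : ∃ k, Nat.card (Sylow 2 G) = k := ⟨_, rfl⟩
    rw [hk] at hdvd hle h5 ⊢
    interval_cases k <;> norm_num at *
  rcases hcases with h1 | h3 | h15
  · have : (P : Subgroup G).Normal := by
      haveI := (Nat.card_eq_one_iff_unique.1 h1).1
      exact Sylow.normal_of_subsingleton P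
    rcases hs.eq_bot_or_eq_top_of_normal _ this with e | e
    · exact hPne e
    · exact hPnt e
  · let f := MulAction.toPermHom G (Sylow 2 G)
    rcases hs.eq_bot_or_eq_top_of_normal f.ker f.normal_ker with e | e
    · have := Nat.card_le_card_of_injective f ((MonoidHom.ker_eq_bot_iff f).1 e)
      rw [Nat.card_perm, h3, h] at this
      norm_num [Nat.factorial] at this
    · have h1 : Subsingleton (Sylow 2 G) := ⟨fun a b => by
        obtain ⟨g, hg⟩ := MulAction.exists_smul_eq G a b
        have hk : f g = 1 := MonoidHom.mem_ker.1 (e ▸ Subgroup.mem_top g)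
        rw [← hg]
        exact (congrArg (fun σ : Equiv.Perm (Sylow 2 G) => σ a) hk).symm⟩
      rw [Nat.card_of_subsingleton P] at h3
      omega
  · have hN : Subgroup.normalizer ((P : Subgroup G) : Set G) = (P : Subgroup G) := by
      refine (Subgroup.eq_of_le_of_card_ge Subgroup.le_normalizer ?_).symm
      have h1 := P.card_eq_index_normalizer
      have h2 := (Subgroup.normalizer ((P : Subgroup G) : Set G)).card_mul_index
      rw [show ((P : Subgroup G) : Set G) = ((P : Sylow 2 G) : Set G) from rfl, ← h1, h15, h] at h2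
      rw [hP, show ((P : Subgroup G) : Set G) = ((P : Sylow 2 G) : Set G) from rfl]
      omega
    have hab : ∀ a b : (P : Subgroup G), a * b = b * a := by
      haveI : IsMulCommutative (P : Subgroup G) :=
        IsPGroup.isMulCommutative_of_card_eq_prime_sq (p := 2) (by rw [hP]; rfl)
      exact fun a b => (IsMulCommutative.is_comm.comm a b)
    have hle' : Subgroup.normalizer ((P : Subgroup G) : Set G) ≤
        Subgroup.centralizer ((P : Subgroup G) : Set G) := by
      rw [hN]
      exact fun x hx y hy => congrArg Subtype.val (hab ⟨y, hy⟩ ⟨x, hx⟩)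
    have hc := MonoidHom.ker_transferSylow_isComplement' P hle'
    have hcard := hc.card_mul
    rcases hs.eq_bot_or_eq_top_of_normal _ (MonoidHom.normal_ker (MonoidHom.transferSylow P hle'))
      with e | e
    · rw [e, Subgroup.card_bot, hP, h] at hcard; omega
    · rw [e, Subgroup.card_top, hP, h] at hcard; omega

/-- A map to the symmetric group of degree five, faithful on a normal simple subgroup of order
sixty. -/
theorem exists_hom_perm {H : Type u} [Group H] [Finite H] (P : Subgroup H) [P.Normal]
    [IsSimpleGroup P] (h : Nat.card P = 60) :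
    ∃ f : H →* Equiv.Perm (Fin 5), f.ker ⊓ P = ⊥ := by
  haveI := Fact.mk Nat.prime_two
  have h5 := card_sylow_two h
  have htr : ∀ a b : Sylow 2 P, ∃ p : P, (MulAut.conj p : MulAut P) • a = b := fun a b => by
    obtain ⟨p, hp⟩ := MulAction.exists_smul_eq P a b
    exact ⟨p, hp⟩
  letI : MulAction H (Sylow 2 P) := MulAction.compHom (Sylow 2 P) (MulAut.conjNormal : H →* MulAut P)
  let e : Sylow 2 P ≃ Fin 5 := Finite.equivFinOfCardEq h5
  let f : H →* Equiv.Perm (Fin 5) :=
    e.permCongrHom.toMonoidHom.comp (MulAction.toPermHom H (Sylow 2 P))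
  refine ⟨f, ?_⟩
  rcases Subgroup.Normal.eq_bot_or_eq_top
    (inferInstance : (f.ker.subgroupOf P).Normal) with hb | ht
  · exact eq_bot_iff.mpr fun x hx => by
      have : (⟨x, (mem_inf.mp hx).2⟩ : P) ∈ f.ker.subgroupOf P := (mem_inf.mp hx).1
      rw [hb, mem_bot] at this
      exact mem_bot.mpr (congrArg Subtype.val this)
  · exfalso
    have h1 : Subsingleton (Sylow 2 P) := ⟨fun a b => by
      obtain ⟨p, hp⟩ := htr a b
      have hk : f (p : H) = 1 := MonoidHom.mem_ker.1 (show p ∈ f.ker.subgroupOf P from ht ▸ mem_top p)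
      have hk' : MulAction.toPermHom H (Sylow 2 P) (p : H) = 1 :=
        e.permCongrHom.injective (hk.trans (map_one e.permCongrHom).symm)
      have h2 : (p : H) • a = a := congrArg (fun σ : Equiv.Perm (Sylow 2 P) => σ a) hk'
      have h3 : (MulAut.conjNormal (p : H) : MulAut P) = MulAut.conj p :=
        MulEquiv.ext fun x => Subtype.ext (by simp)
      change (MulAut.conjNormal (p : H) : MulAut P) • a = a at h2
      rw [h3, hp] at h2
      exact h2.symm⟩
    obtain ⟨Q⟩ : Nonempty (Sylow 2 P) := inferInstance
    rw [Nat.card_of_subsingleton Q] at h5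
    omega

end Cfsg.Agent.Char.SmallOrderGraph.Split
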