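import Cfsg.Agent.Lib.Char.SmallOrderGraph.Split.General
import Cfsg.Agent.Lib.Char.SmallOrderGraph.Split.PermFive
import Cfsg.Agent.Lib.Char.SmallOrderGraph.Split.Sixty
import Cfsg.Agent.Lib.Char.SmallOrderGraph.Split.SimpleFacts
import Cfsg.Agent.S0497

/-!
# The perfect normal subgroups needing a separate argument
-/

set_option autoImplicit false

namespace Cfsg.Agent.Char.SmallOrderGraph.Split

open Subgroup Cfsg Cfsg.Agent.Char

universe u

variable {G : Type u} [Group G] [Finite G]

theorem simple_of_bot {P : Type u} [Group P] [Finite P] (L : Subgroup P) [L.Normal]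
    [IsSimpleGroup (P ⧸ L)] (h : Nat.card L = 1) : IsSimpleGroup P := by
  obtain rfl := card_eq_one.mp h
  exact (QuotientGroup.quotientBot (G := P)).symm.isSimpleGroup

theorem four_cycle : ∃ x : Equiv.Perm (Fin 6), Equiv.Perm.sign x = 1 ∧ x ^ 4 = 1 ∧ x ^ 2 ≠ 1 :=
  ⟨Equiv.swap 0 1 * Equiv.swap 1 2 * Equiv.swap 2 3 * Equiv.swap 4 5, by decide +kernel⟩

/-- The elementary abelian Sylow subgroup of order eight in order 2520. -/
theorem false_of_eight {P : Type u} [Group P] [Finite P] (hP : commutator P = ⊤) (L : Subgroup P)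
    [L.Normal] [IsSimpleGroup (P ⧸ L)] (hdvd : Nat.card P ∣ 2520) (h7 : ¬ 7 ∣ Nat.card P)
    (hL : Nat.card (P ⧸ L) = 60 ∨ Nat.card (P ⧸ L) = 360) (Q : Subgroup P) (hQ : Nat.card Q = 8)
    (hQ' : ¬ 16 ∣ Nat.card P) (hcomm : ∀ x ∈ Q, ∀ y ∈ Q, x * y = y * x)
    (hexp : ∀ x ∈ Q, x ^ 2 = 1) : False := by
  haveI : Fact (Nat.Prime 2) := ⟨Nat.prime_two⟩
  haveI : Fact (Nat.Prime 3) := ⟨Nat.prime_three⟩
  have hc := card_eq_card_quotient_mul_card_subgroup L
  have h8 : 8 ∣ Nat.card P := hQ ▸ card_subgroup_dvd_card Q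
  let S : Sylow 2 P := Sylow.ofCard Q (by
    rw [hQ]
    have h3 : 3 ≤ (Nat.card P).factorization 2 :=
      (Nat.prime_two.pow_dvd_iff_le_factorization Nat.card_pos.ne').mp h8
    have h4 : ¬ 4 ≤ (Nat.card P).factorization 2 := fun h =>
      hQ' ((Nat.prime_two.pow_dvd_iff_le_factorization Nat.card_pos.ne').mpr h)
    rw [show (Nat.card P).factorization 2 = 3 by omega]; norm_num)
  rcases hL with hL | hL
  · rw [hL] at hc
    have h42 : Nat.card L ∣ 42 :=
      Nat.dvd_of_mul_dvd_mul_left (by norm_num : 0 < 60) (hc ▸ hdvd : 60 * Nat.card L ∣ 60 * 42)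
    have h6 : Nat.card L ∣ 6 := by
      refine Nat.Coprime.dvd_of_dvd_mul_left (k := Nat.card L) (m := 7) ?_ h42
      refine Nat.Coprime.symm ((by norm_num : Nat.Prime 7).coprime_iff_not_dvd.mpr fun h => h7 ?_)
      rw [hc]; exact h.mul_left 60
    have h2 : 2 ∣ Nat.card L := by omega
    by_cases h3 : 3 ∣ Nat.card L
    · obtain ⟨T, hTn, hT⟩ := exists_normal_three L h6 h3
      haveI := hTn
      have hL6 : Nat.card L = 6 := Nat.dvd_antisymm h6 (Nat.Coprime.mul_dvd_of_dvd_of_dvd
        (by norm_num : Nat.Coprime 2 3) h2 h3)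
      exact no_prime_normal_sq hP (q := 3) (m := 40) (by rw [hc, hL6]; norm_num) (by norm_num) T hT
    · have hle := Nat.le_of_dvd (by norm_num) h6
      have hL2 : Nat.card L = 2 := by
        obtain ⟨n, hn⟩ : ∃ n, Nat.card L = n := ⟨_, rfl⟩
        rw [hn] at h6 h2 h3 hle ⊢
        interval_cases n <;> omega
      exact no_prime_normal hP S hcomm L hL2
  · rw [hL] at hc
    have h7' : Nat.card L ∣ 7 :=
      Nat.dvd_of_mul_dvd_mul_left (by norm_num : 0 < 360) (hc ▸ hdvd : 360 * Nat.card L ∣ 360 * 7)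
    have h1 : Nat.card L = 1 := by
      rcases (Nat.dvd_prime (by norm_num)).mp h7' with h | h
      · exact h
      · exact absurd (by rw [hc, h]; norm_num) h7
    haveI := simple_of_bot L h1
    obtain ⟨e⟩ := S0497.result (G := P) (by rw [hc, h1])
    obtain ⟨x, hxs, hx4, hx2⟩ := four_cycle
    set y : P := e.symm ⟨x, Equiv.Perm.mem_alternatingGroup.2 hxs⟩ with hy
    have hy4 : y ^ 4 = 1 := by
      rw [hy, ← map_pow, show (⟨x, _⟩ : alternatingGroup (Fin 6)) ^ 4 = 1 from Subtype.ext hx4,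
        map_one]
    have hp : IsPGroup 2 (Subgroup.zpowers y) := by
      obtain ⟨k, -, hk⟩ := (Nat.dvd_prime_pow Nat.prime_two).mp
        (show orderOf y ∣ 2 ^ 2 from orderOf_dvd_of_pow_eq_one hy4)
      exact IsPGroup.of_card (n := k) (by rw [Nat.card_zpowers, hk])
    obtain ⟨S', hS'⟩ := hp.exists_le_sylow
    let f := Sylow.equiv S' S
    have h3 := hexp _ (f ⟨y, hS' (Subgroup.mem_zpowers y)⟩).2
    have h4 : (⟨y, hS' (Subgroup.mem_zpowers y)⟩ : (S' : Subgroup P)) ^ 2 = 1 :=
      f.injective (by rw [map_pow, map_one]; exact Subtype.ext h3)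
    have h5 : y ^ 2 = 1 := congrArg Subtype.val h4
    rw [hy, ← map_pow] at h5
    exact hx2 (congrArg Subtype.val (e.symm.injective (h5.trans (map_one e.symm).symm)))

/-- A perfect normal subgroup with quotient of order 168 in order 504. -/
theorem false_504 (hG : Nat.card G = 504) (hadj : ¬ (degreeGraph G).Adj 2 3) (P : Subgroup G)
    [P.Normal] (hP : commutator P = ⊤) (L : Subgroup P) [L.Normal] [IsSimpleGroup (P ⧸ L)]
    (hL : Nat.card (P ⧸ L) = 168) : False := by
  haveI : Fact (Nat.Prime 3) := ⟨Nat.prime_three⟩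
  have hc := card_eq_card_quotient_mul_card_subgroup L
  rw [hL] at hc
  have hd : 168 * Nat.card L ∣ 168 * 3 := (dvd_of_eq hc.symm).trans
    ((card_subgroup_dvd_card P).trans (dvd_of_eq (hG.trans (by norm_num))))
  rcases (Nat.dvd_prime Nat.prime_three).mp (Nat.dvd_of_mul_dvd_mul_left (by norm_num) hd)
    with h | h
  · haveI := simple_of_bot L h
    exact hadj (adj_of_normal P (adj_168 (S := P) (by rw [hc, h])))
  · exact no_prime_normal_sq hP (q := 3) (m := 56) (by rw [hc, h]; norm_num) (by norm_num) L h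

/-- A central subgroup of order six excludes the edge from two to five. -/
theorem false_of_central_six (hG : Nat.card G = 360) (hadj : (degreeGraph G).Adj 2 5)
    (K : Subgroup G) (hK : Nat.card K = 6) (hc : K ≤ center G) : False := by
  obtain ⟨-, -, -, d, ⟨χ, rfl⟩, hd⟩ := hadj
  rw [charDegree_eq_deg] at hd
  have h := deg_sq_mul_le χ.2 K hc
  rw [hG, hK] at h
  have h10 := Nat.le_of_dvd (deg_pos χ.2) hd
  nlinarith

/-- Two normal subgroups generating the group. -/
theorem central_of_sup (K P : Subgroup G) (hsup : K ⊔ P = ⊤)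
    (hK : ∀ a ∈ K, ∀ b ∈ K, a * b = b * a) (hKP : ∀ a ∈ K, ∀ b ∈ P, a * b = b * a) :
    K ≤ center G := by
  intro a ha
  have h : centralizer ({a} : Set G) = ⊤ := top_le_iff.mp (hsup ▸ sup_le
    (fun b hb => mem_centralizer_singleton_iff.mpr (hK b hb a ha))
    (fun b hb => mem_centralizer_singleton_iff.mpr (hKP a ha b hb).symm))
  exact mem_center_iff.mpr fun g => mem_centralizer_singleton_iff.mp (h ▸ mem_top g)

/-- A nonabelian group of order six has a degree two. -/
theorem two_mem_charDegrees_of_six {H : Type u} [Group H] [Finite H] (hH : Nat.card H = 6)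
    (hna : ¬ ∀ a b : H, a * b = b * a) : ∃ χ : H → ℂ, IsIrrCharacter H χ ∧ deg χ = 2 := by
  classical
  haveI := Fintype.ofFinite H
  by_contra hcon
  refine hna (forall_linear_iff_comm.mpr fun χ => ?_)
  have h0 := deg_pos χ.2
  have hd : deg (χ : H → ℂ) ∣ 6 := hH ▸ deg_dvd_card χ.2
  have hsq := deg_sq_mul_le χ.2 ⊥ bot_le
  rw [card_bot, mul_one, hH] at hsq
  have hle : deg (χ : H → ℂ) ≤ 2 := by nlinarith
  have hne : deg (χ : H → ℂ) ≠ 2 := fun h => hcon ⟨_, χ.2, h⟩
  rw [char_one_eq_deg (irr_isCharacter χ.2), show deg (χ : H → ℂ) = 1 by omega, Nat.cast_one]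

/-- A perfect normal subgroup of order sixty in order 360. -/
theorem false_sixty (hG : Nat.card G = 360) (h25 : (degreeGraph G).Adj 2 5)
    (h23 : ¬ (degreeGraph G).Adj 2 3) (P : Subgroup G) [P.Normal] [IsSimpleGroup P]
    (hP : Nat.card P = 60) : False := by
  obtain ⟨f, hf⟩ := exists_hom_perm P hP
  set K := f.ker with hKdef
  have h1 := Solv.card_sup_mul_card_inf K P
  rw [hf, card_bot, mul_one, hP] at h1
  have h2 : Nat.card K * 60 ∣ 6 * 60 := (dvd_of_eq h1.symm).trans
    ((card_subgroup_dvd_card _).trans (dvd_of_eq (hG.trans (by norm_num))))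
  have h6 : Nat.card K ∣ 6 := Nat.dvd_of_mul_dvd_mul_right (by norm_num) h2
  have hr : Nat.card f.range ∣ 120 := by
    have := card_subgroup_dvd_card f.range
    rwa [Nat.card_perm, Nat.card_fin] at this
  have hmul : Nat.card K * Nat.card f.range = 360 := by
    rw [← hG, ← f.ker.card_mul_index, index_ker]
  have hle := Nat.le_of_dvd (by norm_num) h6
  have hK : Nat.card K = 3 ∨ Nat.card K = 6 := by
    obtain ⟨n, hn⟩ : ∃ n, Nat.card K = n := ⟨_, rfl⟩
    rw [hn] at h6 hmul hle ⊢
    have hr' := Nat.le_of_dvd (by norm_num) hr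
    interval_cases n <;> omega
  rcases hK with hK | hK
  · have hsurj : Function.Surjective f := by
      rw [← MonoidHom.range_eq_top]
      refine eq_top_of_card_eq _ ?_
      rw [Nat.card_perm, Nat.card_fin, show Nat.factorial 5 = 120 from rfl]
      rw [hK] at hmul
      omega
    exact h23 (adj_of_quotient f.ker (perm_five_adj
      (QuotientGroup.quotientKerEquivOfSurjective f hsurj)))
  have hcomm : ∀ a ∈ K, ∀ b ∈ P, a * b = b * a := fun a ha b hb =>
    Subgroup.commute_of_normal_of_disjoint K P inferInstance inferInstance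
      (disjoint_iff.mpr hf) a b ha hb
  have hsup : K ⊔ P = ⊤ := eq_top_of_card_eq _ (by rw [h1, hK, hG])
  by_cases hab : ∀ a ∈ K, ∀ b ∈ K, a * b = b * a
  · exact false_of_central_six hG h25 K hK (central_of_sup K P hsup hab hcomm)
  -- the direct product with a nonabelian group of order six
  have hQ : Nat.card (G ⧸ P) = 6 := by
    have := card_eq_card_quotient_mul_card_subgroup P
    rw [hG, hP] at this
    omega
  obtain ⟨φ, hφ, hφ2⟩ := two_mem_charDegrees_of_six hQ fun h => hab fun a ha b hb => by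
    have h' : a * b * (b * a)⁻¹ ∈ P := by
      rw [← QuotientGroup.eq_one_iff, QuotientGroup.mk_mul, QuotientGroup.mk_inv, mul_inv_eq_one,
        QuotientGroup.mk_mul, QuotientGroup.mk_mul]
      exact h _ _
    have h'' : a * b * (b * a)⁻¹ ∈ K ⊓ P :=
      mem_inf.mpr ⟨mul_mem (mul_mem ha hb) (inv_mem (mul_mem hb ha)), h'⟩
    rw [hf, mem_bot, mul_inv_eq_one] at h''
    exact h''
  haveI : K.Normal := f.normal_ker
  have hQK : Nat.card (G ⧸ K) = 60 := by
    have := card_eq_card_quotient_mul_card_subgroup K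
    rw [hG, hK] at this
    omega
  have hns : ¬ Group.IsSolvable (G ⧸ K) := fun h => by
    have hinj : Function.Injective ((QuotientGroup.mk' K).comp P.subtype) :=
      (injective_iff_map_eq_one _).mpr fun p hp => by
        have : (p : G) ∈ K ⊓ P := mem_inf.mpr ⟨(QuotientGroup.eq_one_iff _).mp hp, p.2⟩
        rw [hf, mem_bot] at this
        exact Subtype.ext this
    haveI := h
    haveI : Group.IsSolvable P := Group.isSolvable_of_isSolvable_injective hinj
    letI : CommGroup P := { (inferInstance : Group P) with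
      mul_comm := IsSimpleGroup.comm_iff_isSolvable.mpr (inferInstance : Group.IsSolvable P) }
    have h60 := IsSimpleGroup.prime_card (α := P)
    rw [hP] at h60
    norm_num at h60
  obtain ⟨-, ⟨-, d, ⟨θ, rfl⟩, hd⟩, -⟩ :=
    mem_degreePrimes_of_three hns hQK (a := 2) (b := 3) (c := 5) (by decide +kernel)
  rw [charDegree_eq_deg] at hd
  refine h23 ⟨by norm_num, Nat.prime_two, Nat.prime_three, _,
    exists_deg_prod P K (by rw [inf_comm]; exact hf) (by rw [hP, hK, hG]) θ.2 hφ, ?_⟩
  rw [hφ2, mul_comm 2 3]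
  exact mul_dvd_mul_right hd 2

/-- A perfect normal subgroup with centre of order two and quotient of order sixty. -/
theorem false_one_twenty (hG : Nat.card G = 360) (h25 : (degreeGraph G).Adj 2 5) (P : Subgroup G)
    [P.Normal] (hP : commutator P = ⊤) (L : Subgroup P) [L.Normal] [IsSimpleGroup (P ⧸ L)]
    (hna : ¬ IsMulCommutative (P ⧸ L)) (hL : Nat.card (P ⧸ L) = 60) (hL2 : Nat.card L = 2) :
    False := by
  have hLc : center P = L :=
    le_antisymm (center_le L hna) (central_of_prime hP L Nat.prime_two hL2)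
  set Z := (center P).map P.subtype with hZ
  haveI : Z.Normal := by rw [hZ]; infer_instance
  have hZ2 : Nat.card Z = 2 := by
    rw [hZ, card_map_of_injective P.subtype_injective, hLc, hL2]
  have hZc : Z ≤ center G := by
    intro z hz
    rw [mem_center_iff]
    intro g
    have hz' := Subgroup.Normal.conj_mem (inferInstance : Z.Normal) z hz g
    obtain ⟨a, b, hab, huniv⟩ := Nat.card_eq_two_iff.mp hZ2
    by_cases hz1 : z = 1
    · rw [hz1, mul_one, one_mul]
    have hmem : ∀ x : Z, x = 1 ∨ x = ⟨z, hz⟩ := fun x => by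
      have hx : x = a ∨ x = b := by simpa using huniv.ge (Set.mem_univ x)
      have h1 : (1 : Z) = a ∨ (1 : Z) = b := by simpa using huniv.ge (Set.mem_univ (1 : Z))
      have h2 : (⟨z, hz⟩ : Z) = a ∨ (⟨z, hz⟩ : Z) = b := by
        simpa using huniv.ge (Set.mem_univ (⟨z, hz⟩ : Z))
      have h3 : (⟨z, hz⟩ : Z) ≠ 1 := fun e => hz1 (congrArg Subtype.val e)
      rcases hx with rfl | rfl <;> rcases h1 with h1 | h1 <;> rcases h2 with h2 | h2 <;>
        first | exact Or.inl h1.symm | exact Or.inr h2.symm | exact absurd (h2.trans h1.symm) h3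
    rcases hmem ⟨_, hz'⟩ with e | e
    · exact absurd (conj_eq_one_iff.mp (congrArg Subtype.val e)) hz1
    · exact mul_inv_eq_iff_eq_mul.mp (congrArg Subtype.val e)
  set mk := QuotientGroup.mk' Z with hmk
  set P' := P.map mk with hP'
  haveI : P'.Normal := (inferInstance : P.Normal).map _ (QuotientGroup.mk'_surjective Z)
  let φ : P →* P' := (mk.comp P.subtype).codRestrict P' fun x => ⟨x, x.2, rfl⟩
  have hφs : Function.Surjective φ := by
    rintro ⟨_, x, hx, rfl⟩
    exact ⟨⟨x, hx⟩, rfl⟩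
  have hφk : φ.ker = L := by
    ext x
    rw [MonoidHom.mem_ker, ← hLc, Subtype.ext_iff]
    show mk (x : G) = 1 ↔ _
    rw [hmk, QuotientGroup.mk'_apply, QuotientGroup.eq_one_iff, hZ]
    exact mem_map_iff_mem P.subtype_injective
  let e : P ⧸ L ≃* P' :=
    (QuotientGroup.quotientMulEquivOfEq hφk.symm).trans
      (QuotientGroup.quotientKerEquivOfSurjective φ hφs)
  haveI : IsSimpleGroup P' := e.symm.isSimpleGroup
  have hP'c : Nat.card P' = 60 := by rw [← Nat.card_congr e.toEquiv, hL]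
  obtain ⟨f, hf⟩ := exists_hom_perm P' hP'c
  set F := f.comp mk with hF
  set K := F.ker with hK
  have hQ : Nat.card (G ⧸ Z) = 180 := by
    have := card_eq_card_quotient_mul_card_subgroup Z
    rw [hG, hZ2] at this
    omega
  have hrange : Nat.card F.range = 60 := by
    have h1 : Nat.card F.range ∣ 120 := by
      have := card_subgroup_dvd_card F.range
      rwa [Nat.card_perm, Nat.card_fin] at this
    have h2 : Nat.card F.range ∣ 180 := by
      rw [← hQ, hF, MonoidHom.range_comp, MonoidHom.range_eq_top.mpr (QuotientGroup.mk'_surjective Z),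
        ← MonoidHom.range_eq_map]
      exact card_range_dvd f
    have h3 : Nat.card F.range ∣ 60 := Nat.dvd_gcd h1 h2
    refine Nat.dvd_antisymm h3 ?_
    rw [← hP'c]
    refine card_dvd_of_injective ((f.comp P'.subtype).codRestrict F.range fun x => ?_) ?_
    · obtain ⟨g, -, hg⟩ := x.2
      exact ⟨g, congrArg f hg⟩
    · intro x y hxy
      have h4 : f ((x : G ⧸ Z) * (y : G ⧸ Z)⁻¹) = 1 := by
        rw [map_mul, map_inv, mul_inv_eq_one]; exact congrArg Subtype.val hxy
      have h5 : (x : G ⧸ Z) * (y : G ⧸ Z)⁻¹ ∈ f.ker ⊓ P' :=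
        mem_inf.mpr ⟨h4, mul_mem x.2 (inv_mem y.2)⟩
      rw [hf, mem_bot, mul_inv_eq_one] at h5
      exact Subtype.ext h5
  have hK6 : Nat.card K = 6 := by
    have h := F.ker.card_mul_index
    rw [index_ker, hrange, hG, ← hK] at h
    omega
  have hKP : K ⊓ P ≤ Z := fun x hx => by
    have h : mk x ∈ f.ker ⊓ P' := mem_inf.mpr ⟨(mem_inf.mp hx).1, ⟨x, (mem_inf.mp hx).2, rfl⟩⟩
    rw [hf, mem_bot] at h
    exact (QuotientGroup.eq_one_iff x).mp h
  have hcomm : ∀ a ∈ K, ∀ b ∈ P, a * b = b * a := by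
    intro a ha b hb
    have hmem : ∀ p : P, a * (p : G) * a⁻¹ * (p : G)⁻¹ ∈ Z := fun p => hKP (mem_inf.mpr
      ⟨by
        rw [mul_assoc a, mul_assoc a]
        exact mul_mem ha ((F.normal_ker).conj_mem _ (inv_mem ha) _),
      mul_mem ((inferInstance : P.Normal).conj_mem _ p.2 a) (inv_mem p.2)⟩)
    letI : CommGroup Z :=
      { (inferInstance : Group Z) with
        mul_comm := fun x y => Subtype.ext (mem_center_iff.mp (hZc y.2) x) }
    let c : P →* Z := MonoidHom.mk' (fun p => ⟨_, hmem p⟩) fun p q => Subtype.ext (by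
      show a * ((p : G) * q) * a⁻¹ * ((p : G) * q)⁻¹ =
        (a * p * a⁻¹ * (p : G)⁻¹) * (a * q * a⁻¹ * (q : G)⁻¹)
      calc a * ((p : G) * q) * a⁻¹ * ((p : G) * q)⁻¹
          = (a * p * a⁻¹) * (a * q * a⁻¹ * (q : G)⁻¹) * (p : G)⁻¹ := by group
        _ = (a * p * a⁻¹) * ((p : G)⁻¹ * (a * q * a⁻¹ * (q : G)⁻¹)) := by
            rw [mul_assoc, ← mem_center_iff.mp (hZc (hmem q)) (p : G)⁻¹]
        _ = _ := by group)
    have h := Abelianization.commutator_subset_ker c
    rw [hP] at h
    have h1 : a * b * a⁻¹ * b⁻¹ = 1 :=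
      congrArg Subtype.val (MonoidHom.mem_ker.mp (h (mem_top (⟨b, hb⟩ : P))))
    exact mul_inv_eq_iff_eq_mul.mp (mul_inv_eq_one.mp h1)
  have hsup : K ⊔ P = ⊤ := by
    refine eq_top_of_le_card _ ?_
    have h := Solv.card_sup_mul_card_inf K P
    have hi : Nat.card (K ⊓ P : Subgroup G) ≤ 2 := hZ2 ▸ card_le_of_le hKP
    rw [hK6, card_eq_card_quotient_mul_card_subgroup L, hL, hL2] at h
    rw [hG]
    nlinarith
  have hKab : ∀ a ∈ K, ∀ b ∈ K, a * b = b * a := by
    have hZK : Z ≤ K := fun z hz => by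
      rw [hK, MonoidHom.mem_ker, hF, MonoidHom.comp_apply, hmk, QuotientGroup.mk'_apply,
        (QuotientGroup.eq_one_iff z).mpr hz, map_one]
    set Z' := Z.subgroupOf K with hZ'
    have hidx : Z'.index = 3 := by
      have h := Z'.card_mul_index
      rw [hZ', Nat.card_congr (subgroupOfEquivOfLe hZK).toEquiv, hZ2, hK6, ← hZ'] at h
      omega
    haveI : Fact (Nat.Prime 3) := ⟨Nat.prime_three⟩
    haveI : IsCyclic (K ⧸ Z') := isCyclic_of_prime_card (p := 3) (by rw [← index_eq_card, hidx])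
    have hle : Z' ≤ center K := fun x hx => mem_center_iff.mpr fun y =>
      Subtype.ext (mem_center_iff.mp (hZc hx) y)
    intro a ha b hb
    exact congrArg Subtype.val (commutative_of_cyclic_center_quotient (QuotientGroup.mk' Z')
      (by rw [QuotientGroup.ker_mk']; exact hle) (⟨a, ha⟩ : K) ⟨b, hb⟩)
  exact false_of_central_six hG h25 K hK6 (central_of_sup K P hsup hKab hcomm)

/-- A perfect normal subgroup with quotient of order sixty in order 360. -/
theorem false_360 (hG : Nat.card G = 360) (h25 : (degreeGraph G).Adj 2 5)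
    (h23 : ¬ (degreeGraph G).Adj 2 3) (P : Subgroup G) [P.Normal] (hP : commutator P = ⊤)
    (L : Subgroup P) [L.Normal] [IsSimpleGroup (P ⧸ L)] (hna : ¬ IsMulCommutative (P ⧸ L))
    (hL : Nat.card (P ⧸ L) = 60) : False := by
  haveI : Fact (Nat.Prime 3) := ⟨Nat.prime_three⟩
  have hc := card_eq_card_quotient_mul_card_subgroup L
  rw [hL] at hc
  have hd : 60 * Nat.card L ∣ 60 * 6 := (dvd_of_eq hc.symm).trans
    ((card_subgroup_dvd_card P).trans (dvd_of_eq (hG.trans (by norm_num))))
  have h6 : Nat.card L ∣ 6 := Nat.dvd_of_mul_dvd_mul_left (by norm_num) hd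
  by_cases h3 : 3 ∣ Nat.card L
  · obtain ⟨T, hTn, hT⟩ := exists_normal_three L h6 h3
    haveI := hTn
    obtain ⟨m, hm⟩ := h3
    have hm2 : m ∣ 2 := by
      rw [hm] at h6
      exact Nat.dvd_of_mul_dvd_mul_left (by norm_num : 0 < 3) h6
    refine no_prime_normal_sq hP (q := 3) (m := 20 * m) (by rw [hc, hm]; ring) (fun h => ?_) T hT
    have := Nat.le_of_dvd (by norm_num) hm2
    interval_cases m <;> omega
  have hle := Nat.le_of_dvd (by norm_num) h6
  obtain h1 | h2 : Nat.card L = 1 ∨ Nat.card L = 2 := by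
    obtain ⟨n, hn⟩ : ∃ n, Nat.card L = n := ⟨_, rfl⟩
    rw [hn] at h6 h3 hle ⊢
    interval_cases n <;> omega
  · haveI := simple_of_bot L h1
    exact false_sixty hG h25 h23 P (by rw [hc, h1])
  · exact false_one_twenty hG h25 P hP L hna hL h2

end Cfsg.Agent.Char.SmallOrderGraph.Split
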