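import Cfsg.Agent.Lib.Char.SmallOrderGraph.List
import Cfsg.Agent.Lib.Solv.Basic

/-!
# Perfect normal subgroups of groups of small order
-/

set_option autoImplicit false

namespace Cfsg.Agent.Char.SmallOrderGraph.Split

open Subgroup
open scoped commutatorElement

universe u

/-- The order of a non-solvable group is a multiple of the order of a simple group. -/
theorem exists_order_dvd (n : ℕ) : ∀ (H : Type u) [Group H] [Finite H], Nat.card H = n → n < 6000 →
    ¬ Group.IsSolvable H → ∃ o ∈ orders, o ∣ n := by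
  induction n using Nat.strong_induction_on with
  | _ n ih =>
    intro H _ _ hn hlt hsol
    haveI : Nontrivial H := by
      rw [← not_subsingleton_iff_nontrivial]
      intro h
      exact hsol (Group.isSolvable_of_comm fun a b => Subsingleton.elim _ _)
    by_cases hs : IsSimpleGroup H
    · refine ⟨n, hn ▸ card_mem_orders (fun hc => hsol (Group.isSolvable_of_comm hc.is_comm.comm)) (by omega), dvd_rfl⟩
    obtain ⟨N, hN, hN0, hN1⟩ : ∃ N : Subgroup H, N.Normal ∧ N ≠ ⊥ ∧ N ≠ ⊤ := by
      by_contra hall
      push Not at hall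
      exact hs ⟨fun N hN => or_iff_not_imp_left.mpr (hall N hN)⟩
    haveI := hN
    have hlt1 : Nat.card N < n := hn ▸ lt_of_le_of_ne (card_le_card_group N)
      fun e => hN1 (eq_top_of_card_eq _ e)
    have hlt2 : Nat.card (H ⧸ N) < n := by
      rw [← hn, card_eq_card_quotient_mul_card_subgroup N]
      exact lt_mul_of_one_lt_right Nat.card_pos (one_lt_card_iff_ne_bot N |>.mpr hN0)
    by_cases hNs : Group.IsSolvable N
    · obtain ⟨o, ho, hd⟩ := ih _ hlt2 (H ⧸ N) rfl (hlt2.trans hlt) fun hq => hsol
        (Group.isSolvable_of_ker_le_range N.subtype (QuotientGroup.mk' N) (by simp))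
      exact ⟨o, ho, hd.trans (hn ▸ ⟨_, card_eq_card_quotient_mul_card_subgroup N⟩)⟩
    · obtain ⟨o, ho, hd⟩ := ih _ hlt1 N rfl (hlt1.trans hlt) hNs
      exact ⟨o, ho, hd.trans (hn ▸ card_subgroup_dvd_card N)⟩

variable {G : Type u} [Group G] [Finite G]

/-- A perfect non-trivial normal subgroup. -/
theorem exists_perfect (hG : ¬ Group.IsSolvable G) :
    ∃ P : Subgroup G, P.Normal ∧ ¬ Group.IsSolvable P ∧ commutator P = ⊤ := by
  obtain ⟨P, -, hP⟩ := Finite.exists_le_minimal
    (p := fun P : Subgroup G => P.Normal ∧ ¬ Group.IsSolvable P) (a := ⊤)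
    ⟨inferInstance, fun h => hG (Group.isSolvable_of_surjective (f := (⊤ : Subgroup G).subtype)
      fun g => ⟨⟨g, mem_top g⟩, rfl⟩)⟩
  obtain ⟨hPn, hPs⟩ := hP.prop
  haveI := hPn
  refine ⟨P, hPn, hPs, ?_⟩
  have h1 : (commutator P).map P.subtype ≤ P := map_subtype_le _
  have hns : ¬ Group.IsSolvable ((commutator P).map P.subtype) := fun h => hPs (by
    haveI := h
    haveI : Group.IsSolvable (commutator P) :=
      Group.isSolvable_of_isSolvable_injective
        (f := (equivMapOfInjective (commutator P) P.subtype P.subtype_injective).toMonoidHom)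
        (MulEquiv.injective _)
    haveI : Group.IsSolvable (P ⧸ commutator P) :=
      Group.isSolvable_of_comm fun a b =>
        (inferInstance : CommGroup (Abelianization P)).mul_comm a b
    exact Group.isSolvable_of_ker_le_range (commutator P).subtype
      (QuotientGroup.mk' (commutator P)) (by simp))
  have h2 := hP.eq_of_le (show ((commutator P).map P.subtype).Normal ∧ _ from ⟨inferInstance, hns⟩) h1
  refine map_injective P.subtype_injective ?_
  rw [← MonoidHom.range_eq_map, range_subtype]
  exact h2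

/-- A maximal normal subgroup of a perfect group has a nonabelian simple quotient. -/
theorem exists_top_quotient {P : Type u} [Group P] [Finite P] [Nontrivial P]
    (hP : commutator P = ⊤) :
    ∃ L : Subgroup P, ∃ _ : L.Normal, IsSimpleGroup (P ⧸ L) ∧ ¬ IsMulCommutative (P ⧸ L) := by
  obtain ⟨L, -, hL⟩ := Finite.exists_le_maximal
    (p := fun L : Subgroup P => L.Normal ∧ L ≠ ⊤) (a := (⊥ : Subgroup P))
    ⟨inferInstance, bot_ne_top⟩
  obtain ⟨hLn, hLt⟩ := hL.prop
  haveI := hLn
  haveI : Nontrivial (P ⧸ L) := Finite.one_lt_card_iff_nontrivial.1 (by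
    rw [← index_eq_card]; exact one_lt_index_of_ne_top hLt)
  refine ⟨L, hLn, ⟨fun H hH => ?_⟩, fun hc => ?_⟩
  · have h1 : L ≤ H.comap (QuotientGroup.mk' L) := fun x hx => by
      rw [mem_comap, QuotientGroup.mk'_apply, (QuotientGroup.eq_one_iff x).2 hx]
      exact H.one_mem
    by_cases h2 : H.comap (QuotientGroup.mk' L) = ⊤
    · right
      apply comap_injective (QuotientGroup.mk'_surjective L)
      rw [h2, comap_top]
    · left
      apply comap_injective (QuotientGroup.mk'_surjective L)
      rw [MonoidHom.comap_bot, QuotientGroup.ker_mk']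
      exact hL.eq_of_ge (show (H.comap (QuotientGroup.mk' L)).Normal ∧ _ from ⟨hH.comap _, h2⟩) h1
  · refine hLt (top_le_iff.mp ?_)
    rw [← hP]
    letI : CommGroup (P ⧸ L) := { (inferInstance : Group (P ⧸ L)) with mul_comm := hc.is_comm.comm }
    have h := Abelianization.commutator_subset_ker (QuotientGroup.mk' L)
    rwa [QuotientGroup.ker_mk'] at h

omit [Finite G] in
/-- A normal subgroup of prime order of a perfect group is central. -/
theorem central_of_prime (hP : commutator G = ⊤) (L : Subgroup G) [L.Normal] {q : ℕ} (hq : q.Prime)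
    (hL : Nat.card L = q) : L ≤ center G := by
  haveI : Fact q.Prime := ⟨hq⟩
  haveI : IsCyclic L := isCyclic_of_prime_card hL
  letI : CommGroup (MulAut L) :=
    { (inferInstance : Group (MulAut L)) with
      mul_comm := fun a b => MulEquiv.ext fun x => by
        obtain ⟨g, hg⟩ := IsCyclic.exists_generator (α := L)
        obtain ⟨i, rfl⟩ := mem_zpowers_iff.mp (hg x)
        obtain ⟨j, hj⟩ := mem_zpowers_iff.mp (hg (a g))
        obtain ⟨k, hk⟩ := mem_zpowers_iff.mp (hg (b g))
        rw [map_zpow, map_zpow, MulAut.mul_apply, MulAut.mul_apply, ← hk, map_zpow, ← hj, map_zpow,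
          ← hk, ← zpow_mul, ← zpow_mul, ← zpow_mul, ← zpow_mul]
        congr 1
        ring }
  have h := Abelianization.commutator_subset_ker
    (MulAut.conjNormal : G →* MulAut L)
  rw [hP] at h
  intro z hz
  rw [mem_center_iff]
  intro g
  have h1 := congrArg (fun a : MulAut L => (a ⟨z, hz⟩ : G)) (MonoidHom.mem_ker.mp (h (mem_top g)))
  simp only [MulAut.conjNormal_apply, MulAut.one_apply] at h1
  exact mul_inv_eq_iff_eq_mul.mp h1

/-- In a perfect group, a central element of an abelian Sylow subgroup is trivial. -/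
theorem eq_one_of_central (hP : commutator G = ⊤) {q : ℕ} [Fact q.Prime] (S : Sylow q G)
    (hS : ∀ x ∈ (S : Subgroup G), ∀ y ∈ (S : Subgroup G), x * y = y * x) {z : G}
    (hz : z ∈ (S : Subgroup G)) (hc : z ∈ center G) : z = 1 := by
  letI : CommGroup (S : Subgroup G) :=
    { (inferInstance : Group (S : Subgroup G)) with
      mul_comm := fun a b => Subtype.ext (hS a a.2 b b.2) }
  have h := Abelianization.commutator_subset_ker
    (MonoidHom.transfer (MonoidHom.id (S : Subgroup G)))
  rw [hP] at h
  have h1 := MonoidHom.mem_ker.mp (h (mem_top z))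
  rw [MonoidHom.transfer_eq_pow (MonoidHom.id (S : Subgroup G)) z (fun k g₀ _ => by
    rw [mul_assoc, ← mem_center_iff.mp (pow_mem hc k) g₀, inv_mul_cancel_left])] at h1
  have h2 : z ^ (S : Subgroup G).index = 1 := congrArg Subtype.val h1
  have h3 : orderOf z ∣ Nat.card (S : Subgroup G) := (S : Subgroup G).orderOf_dvd_natCard hz
  obtain ⟨b, hb⟩ := IsPGroup.iff_card.mp S.isPGroup'
  rw [hb] at h3
  exact orderOf_eq_one_iff.mp (Nat.eq_one_of_dvd_coprimes
    (Nat.Coprime.pow_left b ((Fact.out : q.Prime).coprime_iff_not_dvd.mpr S.not_dvd_index)) h3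
    (orderOf_dvd_of_pow_eq_one h2))

end Cfsg.Agent.Char.SmallOrderGraph.Split
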