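import Cfsg.Agent.Lib.Char.SmallOrderGraph.Split.Radical
import Cfsg.Agent.Lib.Char.SmallOrderGraph.Split.Perfect
import Cfsg.Agent.Lib.Char.SmallOrderGraph.Split.Degrees

/-!
# Normal subgroups of prime order in groups of small order
-/

set_option autoImplicit false

namespace Cfsg.Agent.Char.SmallOrderGraph.Split

open Subgroup Cfsg

universe u

variable {G : Type u} [Group G] [Finite G]

/-- A normal subgroup of order `r` of a normal subgroup, when `r ^ 2` does not divide the order of
the latter, is normal. -/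
theorem lift_normal {r : ℕ} [Fact r.Prime] (K : Subgroup G) [K.Normal]
    (h : ¬ r ^ 2 ∣ Nat.card K) (V : Subgroup K) [V.Normal] (hV : Nat.card V = r) :
    (V.map K.subtype).Normal ∧ Nat.card (V.map K.subtype) = r := by
  have hc : Nat.card (V.map K.subtype) = r := by
    rw [card_map_of_injective K.subtype_injective, hV]
  refine ⟨normal_of_coprime (K := K) (map_subtype_le _) ?_ ?_, hc⟩
  · intro k hk
    refine mem_normalizer_fintype fun v hv => ?_
    obtain ⟨v', hv', rfl⟩ := hv
    exact ⟨⟨k, hk⟩ * v' * ⟨k, hk⟩⁻¹, Subgroup.Normal.conj_mem inferInstance v' hv' _, rfl⟩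
  · rw [hc, relIndex, subgroupOf, comap_map_eq_self_of_injective K.subtype_injective]
    refine (Fact.out : r.Prime).coprime_iff_not_dvd.mpr fun h' => h ?_
    rw [← V.card_mul_index, hV, pow_two]
    exact mul_dvd_mul_left r h'

/-- The prime of a normal subgroup of order `r` divides no degree. -/
theorem not_mem_of_normal {r : ℕ} [Fact r.Prime] (h : ¬ r ^ 2 ∣ Nat.card G) (R : Subgroup G)
    [R.Normal] (hR : Nat.card R = r) : r ∉ degreePrimes G := by
  haveI : IsCyclic R := isCyclic_of_prime_card hR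
  refine not_mem_degreePrimes R (fun x hx y hy =>
    congrArg Subtype.val (IsCyclic.commutative.is_comm.comm (⟨x, hx⟩ : R) ⟨y, hy⟩)) ?_ (dvd_of_eq hR.symm)
  rw [hR]
  refine (Fact.out : r.Prime).coprime_iff_not_dvd.mpr fun h' => h ?_
  rw [← R.card_mul_index, hR, pow_two]
  exact mul_dvd_mul_left r h'

/-- No order of a simple group divides `M`. -/
def solvCheck (M : ℕ) : Bool := orders.all fun o => !decide (M % o = 0)

theorem solvable_of_check {M : ℕ} (hM : 0 < M) (hlt : M < 6000) (h : solvCheck M = true)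
    {H : Type u} [Group H] [Finite H] (hH : Nat.card H ∣ M) : Group.IsSolvable H := by
  by_contra hns
  obtain ⟨o, ho, hd⟩ := exists_order_dvd _ H rfl ((Nat.le_of_dvd hM hH).trans_lt hlt) hns
  simp only [solvCheck, List.all_eq_true, Bool.not_eq_true', decide_eq_false_iff_not] at h
  exact h o ho (Nat.mod_eq_zero_of_dvd (hd.trans hH))

/-- No non-trivial divisor of `M` is congruent to one modulo `r`. -/
def freeCheck (M r : ℕ) : Bool :=
  (Small.DegreeSearch.divs M).all fun d => !decide (1 < d ∧ d % r = 1)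

theorem pow_mod_ne_one {M r : ℕ} (hM : M ≠ 0) (h : freeCheck M r = true) {q a : ℕ} (hq : q.Prime)
    (ha : 1 ≤ a) (hd : q ^ a ∣ M) : q ^ a % r ≠ 1 := fun e => by
  simp only [freeCheck, List.all_eq_true, Bool.not_eq_true', decide_eq_false_iff_not] at h
  exact h _ (Small.DegreeSearch.mem_divs hM hd) ⟨Nat.one_lt_pow (by omega) hq.one_lt, e⟩

/-- A solvable normal subgroup whose order is a multiple of `r`. -/
theorem exists_normal_of_solvable {N M r : ℕ} [Fact r.Prime] (hfull : Full N r)
    (hr2 : ¬ r ^ 2 ∣ N) (hM : M ≠ 0) (hMN : M ∣ N) (hfree : freeCheck M r = true)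
    (K : Subgroup G) [K.Normal] (hsol : Group.IsSolvable K) (hKM : Nat.card K ∣ M)
    (hrK : r ∣ Nat.card K) : ∃ R : Subgroup G, R.Normal ∧ Nat.card R = r := by
  obtain ⟨V, hVn, -, hVs⟩ := exists_special hfull hr2 _ K rfl (hKM.trans hMN) hrK hsol
  rcases hVs with hV | ⟨q, a, hq, ha, hV, hmod⟩
  · haveI := hVn
    obtain ⟨h1, h2⟩ := lift_normal K (fun h => hr2 (h.trans (hKM.trans hMN))) V hV
    exact ⟨_, h1, h2⟩
  · exact absurd hmod (pow_mod_ne_one hM hfree hq ha
      ((hV ▸ card_subgroup_dvd_card V).trans hKM))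

/-- The centre of a group is inside every normal subgroup with nonabelian simple quotient. -/
theorem center_le {P : Type u} [Group P] (L : Subgroup P) [L.Normal] [IsSimpleGroup (P ⧸ L)]
    (hna : ¬ IsMulCommutative (P ⧸ L)) : center P ≤ L := by
  intro z hz
  have hmem : (QuotientGroup.mk z : P ⧸ L) ∈ center (P ⧸ L) := by
    rw [mem_center_iff]
    intro g
    obtain ⟨g', rfl⟩ := QuotientGroup.mk_surjective g
    rw [← QuotientGroup.mk_mul, mem_center_iff.mp hz g', QuotientGroup.mk_mul]
  rcases Subgroup.Normal.eq_bot_or_eq_top (inferInstance : (center (P ⧸ L)).Normal) with h | h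
  · rw [h, mem_bot] at hmem
    exact (QuotientGroup.eq_one_iff z).mp hmem
  · exact absurd ⟨⟨fun a b => mem_center_iff.mp (h ▸ mem_top b) a⟩⟩ hna

/-- A perfect group has no normal subgroup of prime order in an abelian Sylow subgroup. -/
theorem no_prime_normal {P : Type u} [Group P] [Finite P] (hP : commutator P = ⊤) {q : ℕ}
    [Fact q.Prime] (S : Sylow q P)
    (hS : ∀ x ∈ (S : Subgroup P), ∀ y ∈ (S : Subgroup P), x * y = y * x) (T : Subgroup P)
    [T.Normal] (hT : Nat.card T = q) : False := by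
  obtain ⟨S', hS'⟩ := (IsPGroup.of_card (n := 1) (by rw [hT, pow_one]) : IsPGroup q T).exists_le_sylow
  let e := Sylow.equiv S' S
  have hS'c : ∀ x ∈ (S' : Subgroup P), ∀ y ∈ (S' : Subgroup P), x * y = y * x := fun x hx y hy => by
    have h : (⟨x, hx⟩ : (S' : Subgroup P)) * ⟨y, hy⟩ = ⟨y, hy⟩ * ⟨x, hx⟩ := e.injective (by
      rw [map_mul, map_mul]
      exact Subtype.ext (hS _ (e _).2 _ (e _).2))
    exact congrArg Subtype.val h
  have hT1 : T = ⊥ := eq_bot_iff.mpr fun z hz => mem_bot.mpr
    (eq_one_of_central hP S' hS'c (hS' hz) (central_of_prime hP T (Fact.out : q.Prime) hT hz))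
  rw [hT1, card_bot] at hT
  exact (Fact.out : q.Prime).one_lt.ne hT

/-- A perfect group has no normal subgroup of prime order `q` with Sylow `q`-subgroup of order
`q ^ 2`. -/
theorem no_prime_normal_sq {P : Type u} [Group P] [Finite P] (hP : commutator P = ⊤) {q m : ℕ}
    [Fact q.Prime] (hc : Nat.card P = q ^ 2 * m) (hm : ¬ q ∣ m) (T : Subgroup P) [T.Normal]
    (hT : Nat.card T = q) : False := by
  obtain ⟨S⟩ := (inferInstance : Nonempty (Sylow q P))
  have hq : q.Prime := Fact.out
  have hS : Nat.card (S : Subgroup P) = q ^ 2 := by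
    rw [S.card_eq_multiplicity, hc, Nat.factorization_mul (pow_ne_zero _ hq.ne_zero)
      (show m ≠ 0 from fun e => hm (e ▸ dvd_zero q)), Finsupp.add_apply, Nat.factorization_pow_self hq,
      Nat.factorization_eq_zero_of_not_dvd hm]
  haveI : IsMulCommutative (S : Subgroup P) :=
    IsPGroup.isMulCommutative_of_card_eq_prime_sq (p := q) hS
  exact no_prime_normal hP S (fun x hx y hy =>
    congrArg Subtype.val (IsMulCommutative.is_comm.comm (⟨x, hx⟩ : (S : Subgroup P)) ⟨y, hy⟩)) T hT

/-- The normal Sylow subgroup of order three of a normal subgroup of order at most six. -/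
theorem exists_normal_three (L : Subgroup G) [L.Normal] (h6 : Nat.card L ∣ 6)
    (h3 : 3 ∣ Nat.card L) : ∃ T : Subgroup G, T.Normal ∧ Nat.card T = 3 := by
  haveI : Fact (Nat.Prime 3) := ⟨Nat.prime_three⟩
  obtain ⟨x, hx⟩ := exists_prime_orderOf_dvd_card' (G := L) 3 h3
  have hV : Nat.card (Subgroup.zpowers x) = 3 := by rw [Nat.card_zpowers, hx]
  have hi := (Subgroup.zpowers x).card_mul_index
  rw [hV] at hi
  have hle := Nat.le_of_dvd (by norm_num) h6
  haveI : (Subgroup.zpowers x).Normal := by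
    rcases (show (Subgroup.zpowers x).index = 1 ∨ (Subgroup.zpowers x).index = 2 by
      have := (Subgroup.zpowers x).index_ne_zero_of_finite
      omega) with h | h
    · rw [index_eq_one.mp h]; infer_instance
    · exact normal_of_index_eq_two h
  obtain ⟨h1, h2⟩ := lift_normal L (fun h => by
    have := Nat.le_of_dvd Nat.card_pos h
    norm_num at this
    omega) (Subgroup.zpowers x) hV
  exact ⟨_, h1, h2⟩

/-- The general case of a perfect normal subgroup with a top quotient of order `o`. -/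
theorem false_of_perfect {N o M r : ℕ} [Fact r.Prime] (hN : Nat.card G = N) (hlt : N < 6000)
    (hr : r ∈ degreePrimes G) (hoM : o * M = N) (hro : ¬ r ∣ o) (hfull : Full N r)
    (hr2 : ¬ r ^ 2 ∣ N) (hrN : r ∣ N) (hsolv : solvCheck M = true) (hfree : freeCheck M r = true)
    (P : Subgroup G) [P.Normal] (L : Subgroup P) [L.Normal] [IsSimpleGroup (P ⧸ L)]
    (hna : ¬ IsMulCommutative (P ⧸ L)) (hL : Nat.card (P ⧸ L) = o)
    (hbad : ∀ (q a : ℕ) (Q : Subgroup P), q.Prime → 1 ≤ a → q ^ a ∣ N → q ^ a % r = 1 →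
      Nat.card Q = q ^ a → ¬ q ^ (a + 1) ∣ Nat.card P → (∀ x ∈ Q, ∀ y ∈ Q, x * y = y * x) →
      (∀ x ∈ Q, x ^ q = 1) → False) : False := by
  have hr0 : r.Prime := Fact.out
  have hN0 : 0 < N := hN ▸ Nat.card_pos
  have hM0 : 0 < M := Nat.pos_of_ne_zero fun e => by rw [e, mul_zero] at hoM; omega
  have ho0 : 0 < o := hL ▸ Nat.card_pos
  have hMlt : M < 6000 := (Nat.le_of_dvd hN0 (hoM ▸ dvd_mul_left _ _)).trans_lt hlt
  have hP : Nat.card P = o * Nat.card L := by
    rw [card_eq_card_quotient_mul_card_subgroup L, hL]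
  have hPN : Nat.card P ∣ N := hN ▸ card_subgroup_dvd_card P
  have hLM : Nat.card L ∣ M := by
    rw [hP, ← hoM] at hPN
    exact Nat.dvd_of_mul_dvd_mul_left ho0 hPN
  have hcard := card_eq_card_quotient_mul_card_subgroup P
  rw [hN, hP] at hcard
  have hquot : Nat.card (G ⧸ P) * Nat.card L = M := by
    refine Nat.eq_of_mul_eq_mul_left ho0 ?_
    rw [hoM, hcard]; ring
  by_cases hrP : r ∣ Nat.card P
  · have hrL : r ∣ Nat.card L := ((hr0.dvd_mul).mp (hP ▸ hrP)).resolve_left hro
    obtain ⟨R, hRn, hR⟩ := exists_normal_of_solvable hfull hr2 hM0.ne' (hoM ▸ dvd_mul_left _ _)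
      hfree L (solvable_of_check hM0 hMlt hsolv hLM) hLM hrL
    haveI := hRn
    obtain ⟨h1, h2⟩ := lift_normal P (fun h => hr2 (h.trans hPN)) R hR
    exact @not_mem_of_normal _ _ _ r _ (hN.symm ▸ hr2) (R.map P.subtype) h1 h2 hr
  obtain ⟨R₀⟩ := (inferInstance : Nonempty (Sylow r G))
  have hR : Nat.card (R₀ : Subgroup G) = r := by
    rw [R₀.card_eq_multiplicity, hN]
    have h1 := (hr0.pow_dvd_iff_le_factorization hN0.ne' (k := 1)).mp (by rwa [pow_one])
    have h2 : ¬ 2 ≤ N.factorization r := fun h => hr2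
      ((hr0.pow_dvd_iff_le_factorization hN0.ne').mpr h)
    rw [show N.factorization r = 1 by omega, pow_one]
  rcases centralizes_or_bad (R₀ : Subgroup G) P hR hrP
    (le_top.trans (normalizer_eq_top_iff.mpr inferInstance).ge)
    (fun q hq i a h1 h2 h3 h4 => hfull q hq i a h1 h2 (h3.trans hPN) h4) with hRC | hbad'
  swap
  · obtain ⟨q, a, Q, hq, ha, hQP, hQ, hQ', hmod, hcomm, hexp⟩ := hbad'
    refine hbad q a (Q.subgroupOf P) hq ha ((hQ ▸ card_dvd_of_le hQP).trans hPN) hmod
      (by rw [Nat.card_congr (subgroupOfEquivOfLe hQP).toEquiv, hQ]) hQ'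
      (fun x hx y hy => Subtype.ext (hcomm x hx y hy))
      (fun x hx => Subtype.ext (by rw [SubmonoidClass.coe_pow]; exact hexp x hx))
  set C := centralizer (P : Set G) with hC
  haveI : C.Normal := by rw [hC]; infer_instance
  have hCM : Nat.card C ∣ M := by
    set f : C →* G ⧸ P := (QuotientGroup.mk' P).comp C.subtype
    have hker : f.ker = P.subgroupOf C := by
      rw [← MonoidHom.comap_ker, QuotientGroup.ker_mk']; rfl
    have h1 : Nat.card f.ker ∣ Nat.card L := by
      rw [hker]
      refine card_dvd_of_injective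
        (⟨⟨fun x => ⟨⟨(x : C), x.2⟩, center_le L hna (mem_center_iff.mpr fun p => Subtype.ext
          (mem_centralizer_iff.mp (x : C).2 p p.2))⟩, rfl⟩, fun _ _ => rfl⟩ :
          P.subgroupOf C →* L) fun x y h => Subtype.ext (Subtype.ext
            (congrArg (fun z : L => ((z : P) : G)) h))
    have h2 := f.ker.card_mul_index
    rw [index_ker] at h2
    rw [← h2, ← hquot, mul_comm (Nat.card (G ⧸ P))]
    exact mul_dvd_mul h1 (card_subgroup_dvd_card _)
  obtain ⟨R, hRn, hR'⟩ := exists_normal_of_solvable hfull hr2 hM0.ne' (hoM ▸ dvd_mul_left _ _)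
    hfree C (solvable_of_check hM0 hMlt hsolv hCM) hCM (hR ▸ card_dvd_of_le hRC)
  exact @not_mem_of_normal _ _ _ r _ (hN.symm ▸ hr2) R hRn hR' hr

end Cfsg.Agent.Char.SmallOrderGraph.Split
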