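import Cfsg.Agent.Lib.Char.SmallOrderGraph.Split.Exceptions

/-!
# A group with the order and degree graph of a small simple group is simple
-/

set_option autoImplicit false

namespace Cfsg.Agent.Char.SmallOrderGraph.Split

open Subgroup Cfsg Cfsg.Agent.Char

universe u v

variable {G : Type u} [Group G] [Finite G]

/-- Outside `L` no prime power dividing `N` is congruent to one modulo `r`. -/
def badCheck (N r : ℕ) (L : List ℕ) : Bool :=
  (Small.DegreeSearch.divs N).all fun q => decide (q ∈ L) || (List.range 13).all fun i =>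
    !decide (maybePrime q = true ∧ 1 ≤ i ∧ N % q ^ i = 0 ∧ q ^ i % r = 1)

theorem mem_of_badCheck {N r : ℕ} {L : List ℕ} (hN : 0 < N) (hlt : N < 2 ^ 13)
    (h : badCheck N r L = true) {q a : ℕ} (hq : q.Prime) (ha : 1 ≤ a) (hd : q ^ a ∣ N)
    (hmod : q ^ a % r = 1) : q ∈ L := by
  simp only [badCheck, List.all_eq_true, Bool.or_eq_true, decide_eq_true_eq, Bool.not_eq_true',
    decide_eq_false_iff_not, List.mem_range] at h
  have ha' : a < 13 := by
    by_contra h'
    have h5 : 2 ^ 13 ≤ q ^ a :=
      (Nat.pow_le_pow_left hq.two_le 13).trans (Nat.pow_le_pow_right hq.pos (by omega))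
    have := Nat.le_of_dvd hN hd
    omega
  rcases h q (Small.DegreeSearch.mem_divs hN.ne' ((dvd_pow_self q (by omega)).trans hd)) with h | h
  · exact h
  · exact absurd ⟨maybePrime_of_prime hq, ha, Nat.mod_eq_zero_of_dvd hd, hmod⟩ (h a ha')

/-- A solvable group is excluded by the degree primes. -/
theorem false_of_solvable {N r : ℕ} [Fact r.Prime] (hN : Nat.card G = N) (hlt : N < 2 ^ 13)
    (hsol : Group.IsSolvable G) (hfull : fullCheck N r = true) (hr2 : ¬ r ^ 2 ∣ N) (hrN : r ∣ N)
    (L : List ℕ) (hbad : badCheck N r L = true) (hr : r ∈ degreePrimes G)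
    (hL : ∀ q ∈ L, q ∈ degreePrimes G) : False := by
  have hN0 : 0 < N := hN ▸ Nat.card_pos
  have hf := full_of_check hN0 hlt hfull
  obtain ⟨V, hVn, hVc, hVs⟩ := exists_special hf hr2 N G hN dvd_rfl hrN hsol
  haveI := hVn
  have hcop := hVs.coprime_index hf hr2 (dvd_of_eq hN) V
  rcases hVs with h | ⟨q, a, hq, ha, h, hmod⟩
  · exact not_mem_degreePrimes V hVc hcop (dvd_of_eq h.symm) hr
  · exact not_mem_degreePrimes V hVc hcop (h ▸ dvd_pow_self q (by omega))
      (hL q (mem_of_badCheck hN0 hlt hbad hq ha (h ▸ hN ▸ card_subgroup_dvd_card V) hmod))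

/-- The pairs of orders of a small simple group and a proper divisor that is such an order. -/
def pairs : List (ℕ × ℕ) :=
  [(360, 60), (660, 60), (2520, 60), (3420, 60), (4080, 60), (504, 168), (2520, 168), (2520, 360),
    (2520, 504)]

theorem mem_pairs : ∀ N ∈ orders, ∀ o ∈ orders, N % o = 0 → N = o ∨ (N, o) ∈ pairs := by
  decide +kernel

/-- The case of a general pair. -/
theorem false_of_pair {N o M r : ℕ} [Fact r.Prime] (hN : Nat.card G = N) (hlt : N < 6000)
    (hr : r ∈ degreePrimes G) (hfull : fullCheck N r = true) (hbad : badCheck N r [] = true)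
    (hoM : o * M = N) (hro : ¬ r ∣ o) (hr2 : ¬ r ^ 2 ∣ N) (hrN : r ∣ N)
    (hsolv : solvCheck M = true) (hfree : freeCheck M r = true)
    (P : Subgroup G) [P.Normal] (L : Subgroup P) [L.Normal] [IsSimpleGroup (P ⧸ L)]
    (hna : ¬ IsMulCommutative (P ⧸ L)) (hL : Nat.card (P ⧸ L) = o) : False :=
  have hN0 : 0 < N := hN ▸ Nat.card_pos
  false_of_perfect hN hlt hr hoM hro (full_of_check hN0 (by omega) hfull) hr2 hrN hsolv hfree P L
    hna hL fun _ _ _ hq ha hd hmod _ _ _ _ =>
      List.not_mem_nil (mem_of_badCheck hN0 (by omega) hbad hq ha hd hmod)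

/-- The case of order 2520 with a Sylow subgroup of order seven. -/
theorem false_2520 (hN : Nat.card G = 2520) (hr : 7 ∈ degreePrimes G) {o M : ℕ}
    (hoM : o * M = 2520) (hsolv : solvCheck M = true) (hfree : freeCheck M 7 = true)
    (P : Subgroup G) [P.Normal] (hP : commutator P = ⊤) (L : Subgroup P) [L.Normal]
    [IsSimpleGroup (P ⧸ L)] (hna : ¬ IsMulCommutative (P ⧸ L)) (hL : Nat.card (P ⧸ L) = o)
    (ho : o = 60 ∨ o = 360) : False := by
  haveI : Fact (Nat.Prime 7) := ⟨by norm_num⟩
  refine false_of_perfect (r := 7) hN (by norm_num) hr hoM (by rcases ho with rfl | rfl <;> norm_num)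
    (full_of_check (by norm_num) (by norm_num) (by decide +kernel)) (by norm_num) (by norm_num)
    hsolv hfree P L hna hL ?_
  intro q a Q hq ha hd hmod hQ hQ' hcomm hexp
  have hq2 : q = 2 := by
    simpa using mem_of_badCheck (L := [2]) (by norm_num) (by norm_num) (by decide +kernel) hq ha hd hmod
  subst hq2
  have ha4 : a < 4 := by
    by_contra h
    exact absurd ((pow_dvd_pow 2 (Nat.le_of_not_lt h)).trans hd) (by norm_num)
  have ha3 : a = 3 := by interval_cases a <;> first | rfl | (norm_num at hmod)
  subst ha3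
  have h7 : ¬ 7 ∣ Nat.card P := by
    intro h
    have hc := card_eq_card_quotient_mul_card_subgroup L
    rw [hL] at hc
    have h2 : 7 ∣ Nat.card L := by
      rcases (Nat.Prime.dvd_mul (by norm_num)).mp (hc ▸ h) with h' | h'
      · rcases ho with rfl | rfl <;> norm_num at h'
      · exact h'
    have hM0 : 0 < M := Nat.pos_of_ne_zero fun e => by rw [e, mul_zero] at hoM; omega
    have hLM : Nat.card L ∣ M := by
      have h1 : o * Nat.card L ∣ o * M :=
        (dvd_of_eq hc.symm).trans ((card_subgroup_dvd_card P).trans (dvd_of_eq (hN.trans hoM.symm)))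
      exact Nat.dvd_of_mul_dvd_mul_left (hL ▸ Nat.card_pos) h1
    obtain ⟨R, hRn, hR⟩ := exists_normal_of_solvable (N := 2520)
      (full_of_check (by norm_num) (by norm_num) (by decide +kernel)) (by norm_num) hM0.ne'
      (hoM ▸ dvd_mul_left _ _) hfree L (solvable_of_check hM0 (by
        have := Nat.le_of_dvd (by norm_num) (hoM ▸ dvd_mul_left M o)
        omega) hsolv hLM) hLM h2
    haveI := hRn
    obtain ⟨h3, h4⟩ := lift_normal P (fun h' =>
      absurd (h'.trans (hN ▸ card_subgroup_dvd_card P)) (by norm_num)) R hR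
    exact @not_mem_of_normal _ _ _ 7 _ (by rw [hN]; norm_num) (R.map P.subtype) h3 h4 hr
  exact false_of_eight hP L (hN ▸ card_subgroup_dvd_card P) h7
    (by rw [hL]; exact ho) Q hQ hQ' hcomm hexp

theorem isSimple_of_graph {S : Type v} [Group S] [Finite S] [IsSimpleGroup S]
    (hS : ¬ IsMulCommutative S) (hlt : Nat.card S < 6000) (hcard : Nat.card G = Nat.card S)
    (hdp : degreePrimes G = degreePrimes S) (hgr : degreeGraph G = degreeGraph S) :
    IsSimpleGroup G := by
  obtain ⟨N, hN⟩ : ∃ N, Nat.card S = N := ⟨_, rfl⟩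
  have hNo : N ∈ orders := hN ▸ card_mem_orders hS hlt
  rw [hN] at hcard hlt
  have f3 := fun a b c h => three_facts (S := S) hS hN a b c h
  by_cases hsol : Group.IsSolvable G
  · exfalso
    haveI : Fact (Nat.Prime 5) := ⟨by norm_num⟩
    haveI : Fact (Nat.Prime 7) := ⟨by norm_num⟩
    haveI : Fact (Nat.Prime 11) := ⟨by norm_num⟩
    haveI : Fact (Nat.Prime 13) := ⟨by norm_num⟩
    haveI : Fact (Nat.Prime 17) := ⟨by norm_num⟩
    haveI : Fact (Nat.Prime 19) := ⟨by norm_num⟩
    simp only [orders, List.mem_cons, List.not_mem_nil, or_false] at hNo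
    rcases hNo with rfl | rfl | rfl | rfl | rfl | rfl | rfl | rfl | rfl | rfl | rfl
    · obtain ⟨-, -, h⟩ := f3 2 3 5 (by decide +kernel)
      exact false_of_solvable (r := 5) hcard (by norm_num) hsol (by decide +kernel) (by norm_num)
        (by norm_num) [] (by decide +kernel) (hdp ▸ h) (by simp)
    · obtain ⟨h2, -, h⟩ := f3 2 3 7 (by decide +kernel)
      exact false_of_solvable (r := 7) hcard (by norm_num) hsol (by decide +kernel) (by norm_num)
        (by norm_num) [2] (by decide +kernel) (hdp ▸ h) (by simpa using (hdp ▸ h2))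
    · obtain ⟨-, -, h⟩ := f3 2 3 5 (by decide +kernel)
      exact false_of_solvable (r := 5) hcard (by norm_num) hsol (by decide +kernel) (by norm_num)
        (by norm_num) [] (by decide +kernel) (hdp ▸ h) (by simp)
    · obtain ⟨h2, -, h⟩ := f3 2 3 7 (by decide +kernel)
      exact false_of_solvable (r := 7) hcard (by norm_num) hsol (by decide +kernel) (by norm_num)
        (by norm_num) [2] (by decide +kernel) (hdp ▸ h) (by simpa using (hdp ▸ h2))
    · exact false_of_solvable (r := 11) hcard (by norm_num) hsol (by decide +kernel) (by norm_num)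
        (by norm_num) [] (by decide +kernel) (hdp ▸ eleven_mem hN) (by simp)
    · exact false_of_solvable (r := 13) hcard (by norm_num) hsol (by decide +kernel) (by norm_num)
        (by norm_num) [] (by decide +kernel) (hdp ▸ thirteen_mem hN) (by simp)
    · obtain ⟨-, -, h⟩ := f3 2 3 17 (by decide +kernel)
      exact false_of_solvable (r := 17) hcard (by norm_num) hsol (by decide +kernel) (by norm_num)
        (by norm_num) [] (by decide +kernel) (hdp ▸ h) (by simp)
    · obtain ⟨h2, -, h⟩ := facts_2520 hN
      exact false_of_solvable (r := 7) hcard (by norm_num) hsol (by decide +kernel) (by norm_num)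
        (by norm_num) [2] (by decide +kernel) (hdp ▸ h) (by simpa using (hdp ▸ h2))
    · exact false_of_solvable (r := 19) hcard (by norm_num) hsol (by decide +kernel) (by norm_num)
        (by norm_num) [] (by decide +kernel) (hdp ▸ nineteen_mem hN) (by simp)
    · exact false_of_solvable (r := 17) hcard (by norm_num) hsol (by decide +kernel) (by norm_num)
        (by norm_num) [] (by decide +kernel) (hdp ▸ seventeen_mem hN) (by simp)
    · obtain ⟨-, h2, h⟩ := f3 2 3 13 (by decide +kernel)
      exact false_of_solvable (r := 13) hcard (by norm_num) hsol (by decide +kernel) (by norm_num)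
        (by norm_num) [3] (by decide +kernel) (hdp ▸ h) (by simpa using (hdp ▸ h2))
  obtain ⟨P, hPn, hPs, hP⟩ := exists_perfect hsol
  haveI := hPn
  haveI : Nontrivial P := by
    rw [← not_subsingleton_iff_nontrivial]
    exact fun h => hPs (Group.isSolvable_of_comm fun a b => Subsingleton.elim _ _)
  obtain ⟨L, hLn, hLsimp, hLna⟩ := exists_top_quotient hP
  haveI := hLn
  haveI := hLsimp
  have hc := card_eq_card_quotient_mul_card_subgroup L
  obtain ⟨o, ho⟩ : ∃ o, Nat.card (P ⧸ L) = o := ⟨_, rfl⟩
  have hoP : o ∣ Nat.card P := ⟨_, ho ▸ hc⟩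
  have hPN : Nat.card P ∣ N := hcard ▸ card_subgroup_dvd_card P
  have hN0 : 0 < N := hcard ▸ Nat.card_pos
  have hoN : o ∣ N := hoP.trans hPN
  have hoo : o ∈ orders := ho ▸ card_mem_orders hLna
    (by rw [ho]; exact (Nat.le_of_dvd hN0 hoN).trans_lt hlt)
  rcases mem_pairs N hNo o hoo (Nat.mod_eq_zero_of_dvd hoN) with rfl | hmem
  · have hL1 : Nat.card L = 1 := by
      rw [ho] at hc
      have h1 : N * Nat.card L ∣ N * 1 := by rw [mul_one, ← hc]; exact hPN
      exact Nat.dvd_one.mp (Nat.dvd_of_mul_dvd_mul_left hN0 h1)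
    have hPtop : P = ⊤ := eq_top_of_card_eq _ (by rw [hc, ho, hL1, mul_one, hcard])
    haveI := simple_of_bot L hL1
    subst hPtop
    exact (Subgroup.topEquiv (G := G)).symm.isSimpleGroup
  exfalso
  haveI : Fact (Nat.Prime 5) := ⟨by norm_num⟩
  haveI : Fact (Nat.Prime 11) := ⟨by norm_num⟩
  haveI : Fact (Nat.Prime 17) := ⟨by norm_num⟩
  haveI : Fact (Nat.Prime 19) := ⟨by norm_num⟩
  simp only [pairs, List.mem_cons, List.not_mem_nil, or_false, Prod.mk.injEq] at hmem
  rcases hmem with h | h | h | h | h | h | h | h | h <;> obtain ⟨rfl, rfl⟩ := h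
  · obtain ⟨h25, h23⟩ := adj_360 hN
    exact false_360 hcard (hgr ▸ h25) (hgr ▸ h23) P hP L hLna ho
  · exact false_of_pair (M := 11) (r := 11) hcard hlt (hdp ▸ eleven_mem hN) (by decide +kernel)
      (by decide +kernel) (by norm_num) (by norm_num) (by norm_num) (by norm_num)
      (by decide +kernel) (by decide +kernel) P L hLna ho
  · exact false_2520 (M := 42) hcard (hdp ▸ (facts_2520 hN).2.2) (by norm_num) (by decide +kernel)
      (by decide +kernel) P hP L hLna ho (Or.inl rfl)
  · exact false_of_pair (M := 57) (r := 19) hcard hlt (hdp ▸ nineteen_mem hN) (by decide +kernel)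
      (by decide +kernel) (by norm_num) (by norm_num) (by norm_num) (by norm_num)
      (by decide +kernel) (by decide +kernel) P L hLna ho
  · exact false_of_pair (M := 68) (r := 17) hcard hlt (hdp ▸ seventeen_mem hN) (by decide +kernel)
      (by decide +kernel) (by norm_num) (by norm_num) (by norm_num) (by norm_num)
      (by decide +kernel) (by decide +kernel) P L hLna ho
  · exact false_504 hcard (hgr ▸ not_adj_504 hN) P hP L ho
  · exact false_of_pair (M := 15) (r := 5) hcard hlt (hdp ▸ (facts_2520 hN).2.1) (by decide +kernel)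
      (by decide +kernel) (by norm_num) (by norm_num) (by norm_num) (by norm_num)
      (by decide +kernel) (by decide +kernel) P L hLna ho
  · exact false_2520 (M := 7) hcard (hdp ▸ (facts_2520 hN).2.2) (by norm_num) (by decide +kernel)
      (by decide +kernel) P hP L hLna ho (Or.inr rfl)
  · exact false_of_pair (M := 5) (r := 5) hcard hlt (hdp ▸ (facts_2520 hN).2.1) (by decide +kernel)
      (by decide +kernel) (by norm_num) (by norm_num) (by norm_num) (by norm_num)
      (by decide +kernel) (by decide +kernel) P L hLna ho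

end Cfsg.Agent.Char.SmallOrderGraph.Split
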