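import Cfsg.Agent.Lib.Char.SmallOrderGraph.Split.Coprime
import Cfsg.Agent.Lib.Char.SmallOrderGraph.Split.Check

/-!
# Normal abelian Sylow subgroups of solvable groups of small order
-/

set_option autoImplicit false

namespace Cfsg.Agent.Char.SmallOrderGraph.Split

open Subgroup

universe u

/-- Every prime power congruent to one modulo `r` dividing `N` is a full part of `N`. -/
def Full (N r : ℕ) : Prop :=
  ∀ q, q.Prime → ∀ i a, 1 ≤ i → i ≤ a → q ^ a ∣ N → q ^ i % r = 1 → i = a

/-- The decidable form. -/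
def fullCheck (N r : ℕ) : Bool :=
  (Small.DegreeSearch.divs N).all fun q => (List.range 13).all fun i =>
    !decide (maybePrime q = true ∧ 1 ≤ i ∧ N % q ^ (i + 1) = 0 ∧ q ^ i % r = 1)

theorem full_of_check {N r : ℕ} (hN : 0 < N) (hlt : N < 2 ^ 13) (h : fullCheck N r = true) :
    Full N r := by
  intro q hq i a h1 h2 h3 h4
  by_contra hne
  have hdvd : q ^ (i + 1) ∣ N := (pow_dvd_pow q (by omega)).trans h3
  simp only [fullCheck, List.all_eq_true, Bool.not_eq_true', decide_eq_false_iff_not,
    List.mem_range] at h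
  have hi : i < 13 := by
    by_contra hi
    have h5 : 2 ^ 13 ≤ q ^ (i + 1) :=
      (Nat.pow_le_pow_left hq.two_le 13).trans (Nat.pow_le_pow_right hq.pos (by omega))
    have := Nat.le_of_dvd hN hdvd
    omega
  exact h q (Small.DegreeSearch.mem_divs hN.ne' ((dvd_pow_self q (by omega)).trans hdvd)) i hi
    ⟨maybePrime_of_prime hq, h1, Nat.mod_eq_zero_of_dvd hdvd, h4⟩

theorem Full.of_dvd {N M r : ℕ} (h : Full N r) (hM : M ∣ N) : Full M r :=
  fun q hq i a h1 h2 h3 h4 => h q hq i a h1 h2 (h3.trans hM) h4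

/-- The orders of the special subgroups. -/
def Special (r d : ℕ) : Prop :=
  d = r ∨ ∃ q a : ℕ, q.Prime ∧ 1 ≤ a ∧ d = q ^ a ∧ q ^ a % r = 1

theorem Special.coprime {N r d : ℕ} [Fact r.Prime] (hs : Special r d) (hfull : Full N r)
    (hr2 : ¬ r ^ 2 ∣ N) (hd : d ∣ N) : d.Coprime (N / d) := by
  obtain ⟨c, rfl⟩ := hd
  have hd0 : 0 < d := by
    rcases hs with rfl | ⟨q, a, hq, -, rfl, -⟩
    · exact (Fact.out : Nat.Prime d).pos
    · exact pow_pos hq.pos a
  rw [Nat.mul_div_cancel_left _ hd0]
  rcases hs with rfl | ⟨q, a, hq, ha, rfl, hmod⟩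
  · refine (Fact.out : Nat.Prime d).coprime_iff_not_dvd.mpr fun h => hr2 ?_
    rw [pow_two]; exact mul_dvd_mul_left d h
  · refine Nat.Coprime.pow_left a (hq.coprime_iff_not_dvd.mpr fun h => ?_)
    have h1 : q ^ (a + 1) ∣ q ^ a * c := by rw [pow_succ]; exact mul_dvd_mul_left _ h
    have := hfull q hq a (a + 1) ha (Nat.le_succ a) h1 hmod
    omega

/-- The special subgroups have index prime to their order. -/
theorem Special.coprime_index {N r : ℕ} [Fact r.Prime] (hfull : Full N r) (hr2 : ¬ r ^ 2 ∣ N)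
    {H : Type u} [Group H] [Finite H] (hH : Nat.card H ∣ N) (V : Subgroup H)
    (hs : Special r (Nat.card V)) : (Nat.card V).Coprime V.index := by
  have hV : Nat.card V ∣ N := (card_subgroup_dvd_card V).trans hH
  refine (hs.coprime hfull hr2 hV).coprime_dvd_right ?_
  obtain ⟨c, hc⟩ := hH
  refine ⟨c, ?_⟩
  rw [hc, ← V.card_mul_index, mul_assoc, Nat.mul_div_cancel_left _ Nat.card_pos]

/-- A special abelian normal subgroup of a solvable group. -/
theorem exists_special {N r : ℕ} [Fact r.Prime] (hfull : Full N r) (hr2 : ¬ r ^ 2 ∣ N) (n : ℕ) :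
    ∀ (H : Type u) [Group H] [Finite H], Nat.card H = n → n ∣ N → r ∣ n → Group.IsSolvable H →
      ∃ V : Subgroup H, V.Normal ∧ (∀ x ∈ V, ∀ y ∈ V, x * y = y * x) ∧ Special r (Nat.card V) := by
  induction n using Nat.strong_induction_on with
  | _ n ih =>
    intro H _ _ hn hnN hrn hsol
    classical
    have hr : r.Prime := Fact.out
    haveI : Nontrivial H := Finite.one_lt_card_iff_nontrivial.mp (by
      rw [hn]; exact lt_of_lt_of_le hr.one_lt (Nat.le_of_dvd (hn ▸ Nat.card_pos) hrn))
    obtain ⟨V, hVn, hV1, hVmin⟩ := Solv.exists_minimal_normal (G := H)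
    haveI := hVn
    obtain ⟨hVc, q, hq, hVq, hVp⟩ := Solv.minimal_normal_elementaryAbelian V
      (Solv.isSolvable_of_le (le_top : V ≤ ⊤) inferInstance) hV1 hVmin
    haveI := Fact.mk hq
    obtain ⟨a, ha⟩ := IsPGroup.iff_card.mp hVp
    have ha1 : 1 ≤ a := Nat.pos_of_ne_zero fun e => hV1 (card_eq_one.mp (by rw [ha, e, pow_zero]))
    have hVN : q ^ a ∣ N := ha ▸ (card_subgroup_dvd_card V).trans (hn ▸ hnN)
    have hVcomm : ∀ x ∈ V, ∀ y ∈ V, x * y = y * x := fun x hx y hy =>
      congrArg Subtype.val (hVc.is_comm.comm ⟨x, hx⟩ ⟨y, hy⟩)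
    by_cases hqr : q = r
    · refine ⟨V, hVn, hVcomm, Or.inl ?_⟩
      rw [ha, hqr]
      rcases Nat.lt_or_ge 1 a with h | h
      · exact absurd ((pow_dvd_pow r h).trans (hqr ▸ hVN)) hr2
      · rw [show a = 1 by omega, pow_one]
    obtain ⟨R₀⟩ := (inferInstance : Nonempty (Sylow r H))
    have hR : Nat.card R₀ = r := by
      obtain ⟨b, hb⟩ := IsPGroup.iff_card.mp R₀.isPGroup'
      have h1 : 1 ≤ b := Nat.pos_of_ne_zero fun e => by
        have := R₀.dvd_card_of_dvd_card (hn ▸ hrn)
        rw [hb, e, pow_zero, Nat.dvd_one] at this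
        exact hr.ne_one this
      rcases Nat.lt_or_ge 1 b with h | h
      · exact absurd ((pow_dvd_pow r h).trans ((hb ▸ card_subgroup_dvd_card (R₀ : Subgroup H)).trans
          (hn ▸ hnN))) hr2
      · rw [hb, show b = 1 by omega, pow_one]
    rcases centralizes_or_free hq hqr (R₀ : Subgroup H) V hR ha
      (le_top.trans (normalizer_eq_top_iff.mpr hVn).ge)
      (fun i h1 h2 h3 => hfull q hq i a h1 h2 hVN h3) with hRC | ⟨-, hmod, -⟩
    swap
    · exact ⟨V, hVn, hVcomm, Or.inr ⟨q, a, hq, ha1, ha, hmod⟩⟩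
    set K := centralizer (V : Set H) with hK
    by_cases hKtop : K = ⊤
    · -- `V` is central: pass to the quotient
      have hcen : ∀ v ∈ V, ∀ g : H, v * g = g * v := fun v hv g =>
        mem_centralizer_iff.mp (hKtop ▸ mem_top g : g ∈ K) v hv
      have hidx : Nat.card (H ⧸ V) * q ^ a = n := by
        rw [← hn, ← ha]; exact (card_eq_card_quotient_mul_card_subgroup V).symm
      have hlt : Nat.card (H ⧸ V) < n := by
        rw [← hidx]; exact lt_mul_of_one_lt_right Nat.card_pos (Nat.one_lt_pow (by omega) hq.one_lt)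
      have hdvd : Nat.card (H ⧸ V) ∣ n := ⟨_, hidx.symm⟩
      have hrq : r ∣ Nat.card (H ⧸ V) :=
        ((Nat.coprime_primes hr hq).mpr (Ne.symm hqr)).pow_right a |>.dvd_of_dvd_mul_right
          (hidx.symm ▸ hrn)
      obtain ⟨W, hWn, hWc, hWs⟩ := ih _ hlt (H ⧸ V) rfl (hdvd.trans hnN) hrq
        (Group.isSolvable_of_surjective (QuotientGroup.mk'_surjective V))
      haveI := hWn
      set W' := W.comap (QuotientGroup.mk' V) with hW'
      haveI : W'.Normal := hWn.comap _
      have hW'card : Nat.card W' = Nat.card W * q ^ a := by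
        have h1 := W'.card_mul_index
        rw [hW', index_comap_of_surjective _ (QuotientGroup.mk'_surjective V), ← hW', hn, ← hidx,
          ← W.card_mul_index] at h1
        have h2 : 0 < W.index := Nat.pos_of_ne_zero index_ne_zero_of_finite
        refine Nat.eq_of_mul_eq_mul_right h2 ?_
        rw [h1]; ring
      obtain ⟨s, b, hs, hb1, hWsb⟩ : ∃ s b : ℕ, s.Prime ∧ 1 ≤ b ∧ Nat.card W = s ^ b := by
        rcases hWs with h | ⟨s, b, hs, hb1, hWsb, -⟩
        · exact ⟨r, 1, hr, le_rfl, by rw [h, pow_one]⟩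
        · exact ⟨s, b, hs, hb1, hWsb⟩
      haveI := Fact.mk hs
      have hprod : s ^ b * q ^ a ∣ N := by
        rw [← hWsb, ← hW'card]; exact (card_subgroup_dvd_card W').trans (hn ▸ hnN)
      have hcopN := hWs.coprime hfull hr2 ((hWsb ▸ dvd_mul_right _ _ : Nat.card W ∣ s ^ b * q ^ a).trans hprod)
      have hsq : s ≠ q := by
        intro e
        obtain ⟨c, hc⟩ := hprod
        have hc0 : 0 < s ^ b := pow_pos hs.pos b
        rw [hWsb, hc, mul_assoc, Nat.mul_div_cancel_left _ hc0] at hcopN
        exact hs.ne_one (Nat.eq_one_of_dvd_coprimes hcopN (dvd_pow_self s (by omega))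
          (((dvd_of_eq e).trans (dvd_pow_self q (Nat.pos_iff_ne_zero.mp ha1)) : s ∣ q ^ a).mul_right c))
      obtain ⟨S, hS⟩ := Sylow.exists_subgroup_card_pow_prime (G := W') s
        (show s ^ b ∣ Nat.card W' by rw [hW'card, hWsb]; exact dvd_mul_right _ _)
      set S' := S.map W'.subtype with hS'
      have hS'c : Nat.card S' = s ^ b := by rw [hS', card_map_of_injective W'.subtype_injective, hS]
      have hS'W : S' ≤ W' := map_subtype_le _
      have hinj : ∀ x ∈ S', ∀ y ∈ S', (QuotientGroup.mk' V x) = QuotientGroup.mk' V y → x = y := by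
        intro x hx y hy hxy
        have h1 : x⁻¹ * y ∈ V := QuotientGroup.eq.mp hxy
        have h2 := S'.orderOf_dvd_natCard (mul_mem (inv_mem hx) hy)
        have h3 := V.orderOf_dvd_natCard h1
        rw [hS'c] at h2
        rw [ha] at h3
        exact inv_mul_eq_one.mp (orderOf_eq_one_iff.mp (Nat.eq_one_of_dvd_coprimes
          (((Nat.coprime_primes hs hq).mpr hsq).pow b a) h2 h3))
      have hS'comm : ∀ x ∈ S', ∀ y ∈ S', x * y = y * x := fun x hx y hy =>
        hinj _ (mul_mem hx hy) _ (mul_mem hy hx) (by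
          rw [map_mul, map_mul]; exact hWc _ (hS'W hx) _ (hS'W hy))
      have hsup : V ⊔ S' = W' := by
        refine eq_of_le_of_card_ge (sup_le (fun v hv => ?_) hS'W) ?_
        · show QuotientGroup.mk' V v ∈ W
          rw [QuotientGroup.mk'_apply, (QuotientGroup.eq_one_iff v).mpr hv]; exact one_mem _
        · have h1 := Solv.card_sup_mul_card_inf V S'
          rw [Solv.coprime_inf (show (Nat.card V).Coprime (Nat.card S') by
            rw [ha, hS'c]; exact ((Nat.coprime_primes hq hs).mpr (Ne.symm hsq)).pow a b),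
            card_bot, mul_one, ha, hS'c] at h1
          rw [h1, hW'card, hWsb, mul_comm]
      have hnorm : W' ≤ normalizer (S' : Set H) := by
        rw [← hsup]
        refine sup_le (fun v hv => mem_normalizer_fintype fun x hx => ?_) le_normalizer
        rw [hcen v hv x, mul_inv_cancel_right]; exact hx
      refine ⟨S', normal_of_coprime hS'W hnorm ?_, hS'comm, ?_⟩
      · have h1 := (S'.subgroupOf W').card_mul_index
        rw [Nat.card_congr (subgroupOfEquivOfLe hS'W).toEquiv, hS'c, hW'card, hWsb] at h1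
        rw [relIndex, Nat.eq_of_mul_eq_mul_left (pow_pos hs.pos b) h1, hS'c]
        exact ((Nat.coprime_primes hs hq).mpr hsq).pow b a
      · rwa [hS'c, ← hWsb]
    · -- a proper normal subgroup containing the Sylow subgroup
      have hKlt : Nat.card K < n := by
        rw [← hn]
        exact lt_of_le_of_ne (card_le_card_group K) fun e => hKtop (eq_top_of_card_eq _ e)
      have hKN : Nat.card K ∣ N := (card_subgroup_dvd_card K).trans (hn ▸ hnN)
      have hrK : r ∣ Nat.card K := hR ▸ card_dvd_of_le hRC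
      obtain ⟨W, hWn, hWc, hWs⟩ := ih _ hKlt K rfl hKN hrK inferInstance
      haveI : K.Normal := by rw [hK]; infer_instance
      refine ⟨W.map K.subtype, normal_of_coprime (map_subtype_le _) ?_ ?_, ?_, ?_⟩
      · intro k hk
        refine mem_normalizer_fintype fun x hx => ?_
        obtain ⟨w, hw, rfl⟩ := hx
        exact ⟨⟨k, hk⟩ * w * ⟨k, hk⟩⁻¹, hWn.conj_mem w hw _, by simp⟩
      · rw [card_map_of_injective K.subtype_injective,
          show (W.map K.subtype).relIndex K = W.index by
            rw [relIndex, subgroupOf, comap_map_eq_self_of_injective K.subtype_injective]]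
        exact hWs.coprime_index hfull hr2 hKN W
      · rintro _ ⟨x, hx, rfl⟩ _ ⟨y, hy, rfl⟩
        rw [← map_mul, ← map_mul, hWc x hx y hy]
      · rwa [card_map_of_injective K.subtype_injective]

end Cfsg.Agent.Char.SmallOrderGraph.Split
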